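import Cfsg.Agent.Lib.Helper52.FStarAct

set_option autoImplicit false

namespace Cfsg.Agent.Lib.Helper52

universe u

variable {H : Type u} [Group H]

/-- `S` subnormal in `H`, `S ≤ F*(H)`, `O_p(H) = 1`, `Y` a `p`-subgroup normalizing `S` -/
theorem fstar_sup [Finite H] {p : ℕ} [Fact p.Prime] (hO : Cfsg.pCore p H = ⊥)
    {S Y : Subgroup H} (hS : S.IsSubnormal) (hSF : S ≤ Cfsg.generalizedFittingSubgroup H)
    (hY : IsPGroup p Y) (hYS : Y ≤ Subgroup.normalizer (S : Set H)) :
    ⁅S, Y⁆ ⊔ (S ⊓ Subgroup.centralizer (Y : Set H)) = S :=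
  commutator_sup_centralizer_of_fstar hY hYS (genFitting_eq_top_of_le hS hSF)
    (pCore_eq_bot_of_subnormal hS hO)

theorem fstar_comm [Finite H] {p : ℕ} [Fact p.Prime] (hO : Cfsg.pCore p H = ⊥)
    {S Y : Subgroup H} (hS : S.IsSubnormal) (hSF : S ≤ Cfsg.generalizedFittingSubgroup H)
    (hY : IsPGroup p Y) (hYS : Y ≤ Subgroup.normalizer (S : Set H)) :
    ⁅S, Y⁆ = ⁅⁅S, Y⁆, Y⁆ :=
  commutator_eq_commutator_commutator hYS (fstar_sup hO hS hSF hY hYS)

theorem genFitting_isSubnormal : (Cfsg.generalizedFittingSubgroup H).IsSubnormal :=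
  (Helper28.genFitting_normal (G := H)).isSubnormal

theorem le_normalizer_genFitting (Y : Subgroup H) :
    Y ≤ Subgroup.normalizer (Cfsg.generalizedFittingSubgroup H : Set H) := by
  have := Helper28.genFitting_normal (G := H)
  rw [Subgroup.normalizer_eq_top]
  exact le_top

/-- a `p`-subgroup centralizing `F*(H)` is trivial when `O_p(H) = 1` -/
theorem eq_bot_of_le_centralizer_genFitting [Finite H] {p : ℕ} [Fact p.Prime]
    (hO : Cfsg.pCore p H = ⊥) {B : Subgroup H} (hB : IsPGroup p B)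
    (h : B ≤ Subgroup.centralizer (Cfsg.generalizedFittingSubgroup H : Set H)) : B = ⊥ := by
  have h1 : B ≤ Cfsg.generalizedFittingSubgroup H := h.trans Helper28.centralizer_genFitting_le
  have h2 : Cfsg.generalizedFittingSubgroup H ≤ Subgroup.normalizer (B : Set H) :=
    (Subgroup.le_centralizer_iff.1 h).trans (Subgroup.centralizer_le_normalizer _)
  have h3 : B.IsSubnormal := Subgroup.IsSubnormal.step B _ h1 genFitting_isSubnormal
    ((Subgroup.normal_subgroupOf_iff_le_normalizer h1).2 h2)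
  have h4 := Helper28.subnormal_le_pCore h3 hB
  rwa [hO, le_bot_iff] at h4

/-- if `D = [D, Y]` and `Y ≤ K` with `K` subnormal then `D ≤ K` -/
theorem le_of_isSubnormal_of_commutator_eq {D Y K : Subgroup H} (hD : D = ⁅D, Y⁆)
    (hK : K.IsSubnormal) : Y ≤ K → D ≤ K := by
  induction hK with
  | top => exact fun _ => le_top
  | step K' K hle _ hN ih =>
    intro hY
    have h1 : D ≤ K := ih (hY.trans hle)
    rw [hD]
    refine (Subgroup.commutator_mono h1 hY).trans ?_
    rw [Subgroup.commutator_comm]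
    exact commutator_le_of_le_normalizer ((Subgroup.normal_subgroupOf_iff_le_normalizer hle).1 hN)

end Cfsg.Agent.Lib.Helper52
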