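import Cfsg.Agent.Lib.Helper52.FStarAct2

set_option autoImplicit false

namespace Cfsg.Agent.Lib.Helper52

universe u

variable {G : Type u} [Group G]

/-- norm argument: `L = [L,Q]`, `z ∈ C_L(Q)`: `z^|Q| ∈ L'` -/
theorem pow_card_mem_commutator [Finite G] {L Q : Subgroup G}
    (hQL : Q ≤ Subgroup.normalizer (L : Set G)) (hLQ : ⁅L, Q⁆ = L) {z : G} (hz : z ∈ L)
    (hzQ : z ∈ Subgroup.centralizer (Q : Set G)) : z ^ Nat.card Q ∈ ⁅L, L⁆ := by
  classical
  let _ : Fintype Q := Fintype.ofFinite _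
  let c : Q → (↥L ≃* ↥L) := fun q => L.normalizerMonoidHom ⟨q, hQL q.2⟩
  have hc : ∀ (q : Q) (x : L), ((c q x : L) : G) = q * x * (q : G)⁻¹ := fun _ _ => rfl
  let φ : ↥L →* Abelianization ↥L := ∏ q : Q, (Abelianization.of).comp (c q).toMonoidHom
  have hφ : ∀ x, φ x = ∏ q : Q, Abelianization.of (c q x) := by
    intro x
    simp [φ]
  have hinv : ∀ (q₀ : Q) (x : L), φ (c q₀ x) = φ x := by
    intro q₀ x
    rw [hφ, hφ]
    apply Fintype.prod_equiv (Equiv.mulRight q₀)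
    intro q
    congr 1
    apply Subtype.ext
    rw [hc, hc, hc]
    simp [mul_assoc]
  have hker : L ≤ (φ.ker).map L.subtype := by
    conv_lhs => rw [← hLQ]
    rw [Subgroup.commutator_le]
    intro l hl q hq
    refine ⟨⟨l, hl⟩ * (c ⟨q, hq⟩ ⟨l, hl⟩)⁻¹, ?_, ?_⟩
    · show _ ∈ φ.ker
      rw [MonoidHom.mem_ker, map_mul, map_inv, hinv, mul_inv_cancel]
    · show l * (q * l * q⁻¹)⁻¹ = l * q * l⁻¹ * q⁻¹
      group
  obtain ⟨z', hz', hzz⟩ := hker hz
  have hz'' : z' = ⟨z, hz⟩ := Subtype.ext hzz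
  subst hz''
  have h1 : φ ⟨z, hz⟩ = 1 := hz'
  have h2 : ∀ q : Q, c q ⟨z, hz⟩ = ⟨z, hz⟩ := by
    intro q
    apply Subtype.ext
    rw [hc]
    show (q : G) * z * (q : G)⁻¹ = z
    rw [Subgroup.mem_centralizer_iff.1 hzQ q q.2]
    group
  rw [hφ] at h1
  simp only [h2, Finset.prod_const, Finset.card_univ] at h1
  rw [← map_pow, ← MonoidHom.mem_ker, Abelianization.ker_of, ← Nat.card_eq_fintype_card] at h1
  have h3 : (commutator ↥L).map L.subtype = ⁅L, L⁆ := by
    rw [commutator_def, Subgroup.map_commutator, map_top_subtype]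
  rw [← h3]
  exact ⟨_, h1, rfl⟩

/-- a central element lying in the commutator subgroup lies in the Frattini subgroup -/
theorem mem_frattini_of_central_of_mem_commutator {K : Type*} [Group K] {z : K}
    (hz : z ∈ Subgroup.center K) (hz' : z ∈ commutator K) : z ∈ frattini K := by
  unfold frattini Order.radical
  rw [Subgroup.mem_iInf]
  intro M
  rw [Subgroup.mem_iInf]
  intro hM
  by_contra hzM
  have htop : M ⊔ Subgroup.zpowers z = ⊤ := by
    apply hM.2
    refine lt_of_le_of_ne le_sup_left ?_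
    intro h
    apply hzM
    rw [h]
    exact (le_sup_right : Subgroup.zpowers z ≤ _) (Subgroup.mem_zpowers z)
  have hzc : ∀ a : K, z * a * z⁻¹ = a := by
    intro a
    rw [← Subgroup.mem_center_iff.1 hz a]
    group
  have hzp : Subgroup.zpowers z ≤ Subgroup.center K := Subgroup.zpowers_le.2 hz
  have hN : (⊤ : Subgroup K) ≤ Subgroup.normalizer (M : Set K) := by
    rw [← htop]
    apply sup_le Subgroup.le_normalizer
    exact hzp.trans (Subgroup.center_le_normalizer _)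
  have h1 : (⊤ : Subgroup K) ≤ chainStabRel ⊤ ⊤ M hN := by
    conv_lhs => rw [← htop]
    apply sup_le
    · intro x hx
      refine ⟨Subgroup.mem_top _, ?_⟩
      intro a _
      have h2 : x * a * x⁻¹ * a⁻¹ = x * (a * x⁻¹ * a⁻¹) := by group
      rw [h2]
      exact M.mul_mem hx (mem_normalizer_conj (hN (Subgroup.mem_top a)) (M.inv_mem hx))
    · intro x hx
      refine ⟨Subgroup.mem_top _, ?_⟩
      intro a _
      rw [← Subgroup.mem_center_iff.1 (hzp hx) a]
      simp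
  have h2 : commutator K ≤ M := by
    rw [commutator_def, Subgroup.commutator_le]
    intro a _ b _
    exact (h1 (Subgroup.mem_top a)).2 b (Subgroup.mem_top b)
  exact hzM (h2 hz')

/-- a `p`-group `Q` normalizing `C` with `p ∣ |C|` centralizes a nontrivial `p`-element of `C` -/
theorem exists_fixed_pElement [Finite G] {p : ℕ} [Fact p.Prime] {C Q : Subgroup G}
    (hQ : IsPGroup p Q) (hQC : Q ≤ Subgroup.normalizer (C : Set G)) (hC : p ∣ Nat.card C) :
    ∃ u ∈ C, u ≠ 1 ∧ u ∈ Subgroup.centralizer (Q : Set G) ∧ IsPGroup p (Subgroup.zpowers u) := by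
  have hCN : C ≤ C ⊔ Q := le_sup_left
  have hNC : C ⊔ Q ≤ Subgroup.normalizer (C : Set G) := sup_le Subgroup.le_normalizer hQC
  obtain ⟨T, hT⟩ := (isPGroup_subgroupOf hQ : IsPGroup p (Q.subgroupOf (C ⊔ Q))).exists_le_sylow
  have hTp : IsPGroup p ((T : Subgroup ↥(C ⊔ Q)).map (C ⊔ Q).subtype) := isPGroup_map_subtype.2 T.2
  have hTN : ¬ p ∣ ((T : Subgroup ↥(C ⊔ Q)).map (C ⊔ Q).subtype).relIndex (C ⊔ Q) := by
    rw [Subgroup.relIndex, Subgroup.subgroupOf,
      Subgroup.comap_map_eq_self_of_injective (C ⊔ Q).subtype_injective]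
    exact T.not_dvd_index
  have hQT : Q ≤ (T : Subgroup ↥(C ⊔ Q)).map (C ⊔ Q).subtype := by
    intro q hq
    exact ⟨⟨q, (le_sup_right : Q ≤ C ⊔ Q) hq⟩, hT hq, rfl⟩
  have h1 := relIndex_step hTp hTN hCN hNC
  set T' := (T : Subgroup ↥(C ⊔ Q)).map (C ⊔ Q).subtype with hT'
  have hB1 : T' ⊓ C ≠ ⊥ := by
    intro h
    apply h1
    rw [← Subgroup.inf_relIndex_right, h, Subgroup.relIndex_bot_left]
    exact hC
  have hBp : IsPGroup p (T' ⊓ C : Subgroup G) := hTp.to_le inf_le_left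
  have hQB : Q ≤ Subgroup.normalizer ((T' ⊓ C : Subgroup G) : Set G) := fun q hq =>
    normalizer_inf_le_normalizer_inf _ _ ⟨Subgroup.le_normalizer (hQT hq), hQC hq⟩
  obtain ⟨u, hu, hu1, hu2⟩ := exists_ne_one_mem_centralizer hQ hBp hB1 hQB
  exact ⟨u, hu.2, hu1, hu2, hBp.to_le (Subgroup.zpowers_le.2 hu)⟩

/-- a central element `z` of `L` with `O_p(L) = 1` satisfies `z^m = 1` for some `p'`-number `m` -/
theorem mem_of_pow_mem_of_central [Finite G] {p : ℕ} [Fact p.Prime] {L D : Subgroup G}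
    (hO : Cfsg.pCore p ↥L = ⊥) {z : G} (hz : z ∈ L) (hzL : z ∈ Subgroup.centralizer (L : Set G))
    {k : ℕ} (hD : z ^ (p ^ k) ∈ D) : z ∈ D := by
  obtain ⟨m, e, hm, hme⟩ := exists_pprime_exponent G p
  have h1 : Subgroup.zpowers (z ^ m) ≤ Cfsg.pCoreOf p L := by
    apply le_pCoreOf (Subgroup.zpowers_le.2 (L.pow_mem hz m))
    · have h2 : Subgroup.zpowers (z ^ m) ≤ Subgroup.centralizer (L : Set G) :=
        Subgroup.zpowers_le.2 (Subgroup.pow_mem _ hzL m)
      exact (Subgroup.le_centralizer_iff.1 h2).trans (Subgroup.centralizer_le_normalizer _)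
    · rintro ⟨x, hx⟩
      obtain ⟨i, rfl⟩ := Subgroup.mem_zpowers_iff.1 hx
      refine ⟨e, Subtype.ext ?_⟩
      show ((z ^ m) ^ i) ^ p ^ e = 1
      rw [← zpow_natCast, ← zpow_mul, mul_comm, zpow_mul, zpow_natCast, hme, one_zpow]
  have h3 : Cfsg.pCoreOf p L = ⊥ := by
    unfold Cfsg.pCoreOf
    rw [hO, Subgroup.map_bot]
  rw [h3, le_bot_iff, Subgroup.zpowers_eq_bot] at h1
  apply mem_of_pow_mem_of_coprime D (a := m) (b := p ^ k) _ hD (Nat.Coprime.pow_right k hm)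
  rw [h1]
  exact D.one_mem

end Cfsg.Agent.Lib.Helper52
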