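import Mathlib
import Cfsg.Prelude.Def_LocalStructure
import Cfsg.Agent.Lib.Helper52.Subn

set_option autoImplicit false

namespace Cfsg.Agent.Lib.Helper52

variable {G : Type*} [Group G]

/-- The Frattini subgroup lies in every subgroup containing all commutators and `p`-th powers. -/
theorem frattini_le_of [Finite G] {p : ℕ} [Fact p.Prime] (N : Subgroup G)
    (hcomm : ∀ x y : G, x * y * x⁻¹ * y⁻¹ ∈ N) (hpow : ∀ x : G, x ^ p ∈ N) : frattini G ≤ N := by
  intro x hx
  by_contra hxN
  obtain ⟨M, hM⟩ := (Set.toFinite {M : Subgroup G | N ≤ M ∧ x ∉ M}).exists_maximal ⟨N, le_rfl, hxN⟩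
  have hMn : M.Normal := by
    constructor
    intro m hm g
    have : g * m * g⁻¹ = (g * m * g⁻¹ * m⁻¹) * m := by group
    rw [this]
    exact M.mul_mem (hM.1.1 (hcomm g m)) hm
  have hco : IsCoatom M := by
    refine ⟨fun h => hM.1.2 (h ▸ Subgroup.mem_top x), ?_⟩
    intro M' hM'
    have hxM' : x ∈ M' := by
      by_contra h
      exact absurd (hM.2 (show M' ∈ {M : Subgroup G | N ≤ M ∧ x ∉ M} from ⟨hM.1.1.trans hM'.le, h⟩)
        hM'.le) (not_le_of_gt hM')
    rw [eq_top_iff]
    intro y _
    by_cases hy : y ∈ M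
    · exact hM'.le hy
    · have h1 : x ∈ Subgroup.zpowers y ⊔ M := by
        by_contra h
        have h2 := hM.2 (show Subgroup.zpowers y ⊔ M ∈ {M : Subgroup G | N ≤ M ∧ x ∉ M} from
          ⟨hM.1.1.trans le_sup_right, h⟩) le_sup_right
        exact hy (h2 (le_sup_left (b := M) (Subgroup.mem_zpowers y)))
      have h4 : x ∈ ((Subgroup.zpowers y ⊔ M : Subgroup G) : Set G) := h1
      rw [Subgroup.mul_normal] at h4
      obtain ⟨z, hz, m, hm, hzm⟩ := h4
      have hz' : z ∈ Submonoid.powers y := (mem_powers_iff_mem_zpowers).2 hz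
      obtain ⟨i, rfl⟩ := hz'
      have hi : ¬ p ∣ i := by
        rintro ⟨j, rfl⟩
        apply hM.1.2
        rw [← hzm]
        simp only []
        rw [pow_mul]
        exact M.mul_mem (M.pow_mem (hM.1.1 (hpow y)) j) hm
      apply mem_of_pow_mem_of_coprime M' (a := i) (b := p)
      · have : y ^ i = x * m⁻¹ := by
          rw [← hzm]
          simp
        rw [this]
        exact M'.mul_mem hxM' (M'.inv_mem (hM'.le hm))
      · exact hM'.le (hM.1.1 (hpow y))
      · exact ((Fact.out : p.Prime).coprime_iff_not_dvd.2 hi).symm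
  exact hM.1.2 (frattini_le_coatom hco hx)

/-- The Frattini subgroup is killed by every homomorphism to an elementary abelian group. -/
theorem frattini_le_ker [Finite G] {p : ℕ} [Fact p.Prime] {A : Type*} [Group A] (f : G →* A)
    (hA : ∀ a b : A, a * b = b * a) (h : ∀ x : G, (f x) ^ p = 1) : frattini G ≤ f.ker := by
  apply frattini_le_of (p := p)
  · intro x y
    rw [MonoidHom.mem_ker, map_mul, map_mul, map_mul, map_inv, map_inv, hA (f x) (f y)]
    group
  · intro x
    rw [MonoidHom.mem_ker, map_pow, h]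

theorem normalizer_le_normalizer_frattini (P : Subgroup G) :
    Subgroup.normalizer (P : Set G) ≤
      Subgroup.normalizer (((frattini P).map P.subtype : Subgroup G) : Set G) := by
  apply le_normalizer_of_conj_mem
  rintro g hg _ ⟨u, hu, rfl⟩
  have h1 : (frattini P).map (P.normalizerMonoidHom ⟨g, hg⟩).toMonoidHom = frattini P :=
    Subgroup.characteristic_iff_map_eq.1 inferInstance _
  refine ⟨P.normalizerMonoidHom ⟨g, hg⟩ u, ?_, ?_⟩
  · rw [← h1]
    exact ⟨u, hu, rfl⟩
  · simp

end Cfsg.Agent.Lib.Helper52
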