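import Mathlib
import Cfsg.Prelude.Def_LocalStructure
import Cfsg.Agent.Lib.Helper52.SylowN

set_option autoImplicit false

namespace Cfsg.Agent.Lib.Helper52

open scoped Pointwise

variable {G : Type*} [Group G]

theorem PRin.pCoreOf_le_centralizer [Finite G] {p : ℕ} [Fact p.Prime] {R X : Subgroup G}
    (h : PRin p R X) : Cfsg.pCoreOf p R ≤ Subgroup.centralizer (X : Set G) := by
  apply h.2.2.2 _ (pCoreOf_le R) (le_normalizer_pCoreOf R)
  intro d hd
  obtain ⟨k, hk⟩ := pCoreOf_isPGroup (p := p) R ⟨d, hd⟩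
  refine ⟨k, ?_⟩
  have := congrArg Subtype.val hk
  simp only [SubmonoidClass.mk_pow, OneMemClass.coe_one] at this
  rw [this]
  exact Subgroup.one_mem _

theorem PRin.le_omegaZ [Finite G] {p : ℕ} [Fact p.Prime] {R X : Subgroup G}
    (h : PRin p R X) :
    X ≤ Cfsg.omegaOne p (Cfsg.pCoreOf p R ⊓ Subgroup.centralizer (Cfsg.pCoreOf p R : Set G)) := by
  intro x hx
  rw [mem_omegaZ]
  refine ⟨le_pCoreOf h.1 h.2.1 (IsElementaryAbelian.isPGroup h.2.2.1) hx, ?_, h.2.2.1.2 x hx⟩
  exact (Subgroup.le_centralizer_iff.1 h.pCoreOf_le_centralizer) hx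

/-- the join of all `p`-reduced normal subgroups is `p`-reduced -/
theorem PRin_sSup [Finite G] {p : ℕ} [Fact p.Prime] (R : Subgroup G) :
    PRin p R (sSup {V | PRin p R V}) := by
  refine ⟨sSup_le fun V hV => hV.1, ?_, ?_, ?_⟩
  · intro g hg
    have key : ∀ g ∈ R, ∀ x ∈ sSup {V | PRin p R V}, g * x * g⁻¹ ∈ sSup {V | PRin p R V} := by
      intro g hg x hx
      have h1 : sSup {V | PRin p R V} ≤ (sSup {V | PRin p R V}).comap (MulAut.conj g).toMonoidHom := by
        apply sSup_le
        intro V hV y hy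
        rw [Subgroup.mem_comap]
        exact (le_sSup hV : V ≤ sSup {V | PRin p R V}) (mem_normalizer_conj (hV.2.1 hg) hy)
      exact h1 hx
    rw [Subgroup.mem_normalizer_iff]
    intro x
    refine ⟨key g hg x, fun hx => ?_⟩
    have := key g⁻¹ (R.inv_mem hg) _ hx
    simpa [mul_assoc] using this
  · exact isElementaryAbelian_of_le (sSup_le fun V hV => PRin.le_omegaZ hV)
      (omegaZ_isElementaryAbelian _)
  · intro D hD1 hD2 hD3
    rw [Subgroup.le_centralizer_iff]
    apply sSup_le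
    intro V hV
    rw [← Subgroup.le_centralizer_iff]
    apply hV.2.2.2 D hD1 hD2
    intro d hd
    obtain ⟨k, hk⟩ := hD3 d hd
    exact ⟨k, Subgroup.centralizer_le (le_sSup hV : V ≤ sSup {V | PRin p R V}) hk⟩

/-- the normal closure of a `p`-reduced normal subgroup of an overgroup of a Sylow subgroup -/
theorem PRin_normalClosure [Finite G] {p : ℕ} [Fact p.Prime]
    (hchar : Subgroup.centralizer (Cfsg.pCore p G : Set G) ≤ Cfsg.pCore p G)
    (T : Sylow p G) {R X : Subgroup G} (hTR : (T : Subgroup G) ≤ R) (hX : PRin p R X) :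
    PRin p ⊤ (Subgroup.normalClosure (X : Set G)) := by
  have hO1 : Cfsg.pCore p G ≤ R := (pCore_le_sylow T).trans hTR
  have hO2 : Cfsg.pCore p G ≤ Subgroup.centralizer (X : Set G) := by
    refine le_trans ?_ hX.pCoreOf_le_centralizer
    exact le_pCoreOf hO1 (by rw [Subgroup.normalizer_eq_top]; exact le_top) pCore_isPGroup
  have hX1 : X ≤ Cfsg.omegaOne p (Cfsg.pCore p G ⊓ Subgroup.centralizer (Cfsg.pCore p G : Set G)) := by
    intro x hx
    have h1 : x ∈ Subgroup.centralizer (Cfsg.pCore p G : Set G) :=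
      (Subgroup.le_centralizer_iff.1 hO2) hx
    rw [mem_omegaZ]
    exact ⟨hchar h1, h1, hX.2.2.1.2 x hx⟩
  have hZn : (Cfsg.omegaOne p
      (Cfsg.pCore p G ⊓ Subgroup.centralizer (Cfsg.pCore p G : Set G))).Normal := by
    rw [← Subgroup.normalizer_eq_top_iff, eq_top_iff]
    refine le_trans ?_ (normalizer_le_normalizer_omegaZ _)
    rw [Subgroup.normalizer_eq_top]
  have hV1 : Subgroup.normalClosure (X : Set G) ≤ Cfsg.omegaOne p
      (Cfsg.pCore p G ⊓ Subgroup.centralizer (Cfsg.pCore p G : Set G)) :=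
    Subgroup.normalClosure_le_normal hX1
  refine ⟨le_top, by rw [Subgroup.normalizer_eq_top], isElementaryAbelian_of_le hV1
    (omegaZ_isElementaryAbelian _), ?_⟩
  intro D _ hD2 hD3
  have hDn : D.Normal := Subgroup.normalizer_eq_top_iff.1 (eq_top_iff.2 hD2)
  have hcc : Subgroup.centralizer ((Subgroup.normalClosure (X : Set G) : Subgroup G) : Set G) ≤
      Subgroup.centralizer (X : Set G) := Subgroup.centralizer_le Subgroup.subset_normalClosure
  -- `D ∩ R` centralizes `X`
  have h1 : D ⊓ R ≤ Subgroup.centralizer (X : Set G) := by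
    apply hX.2.2.2 _ inf_le_right
    · intro g hg
      have key : ∀ g ∈ R, ∀ x ∈ D ⊓ R, g * x * g⁻¹ ∈ D ⊓ R := fun g hg x hx =>
        ⟨hDn.conj_mem x hx.1 g, R.mul_mem (R.mul_mem hg hx.2) (R.inv_mem hg)⟩
      rw [Subgroup.mem_normalizer_iff]
      intro x
      refine ⟨key g hg x, fun hx => ?_⟩
      have := key g⁻¹ (R.inv_mem hg) _ hx
      simpa [mul_assoc] using this
    · intro d hd
      obtain ⟨k, hk⟩ := hD3 d hd.1
      exact ⟨k, hcc hk⟩
  have h2 : D ≤ Subgroup.centralizer (X : Set G) :=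
    normal_le_of_sylow_inf T D
      (Subgroup.centralizer ((Subgroup.normalClosure (X : Set G) : Subgroup G) : Set G)) _ hD3
      ((inf_le_inf_left D hTR).trans h1) (inf_le_right.trans hcc)
  rw [Subgroup.le_centralizer_iff]
  apply Subgroup.normalClosure_le_normal
  exact Subgroup.le_centralizer_iff.1 h2

end Cfsg.Agent.Lib.Helper52
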