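import Mathlib
import Cfsg.Prelude.Def_LocalStructure
import Cfsg.Agent.Lib.Helper52.PReduced
import Cfsg.Agent.Lib.Helper52.RelSyl

set_option autoImplicit false

namespace Cfsg.Agent.Lib.Helper52

variable {G : Type*} [Group G]

/-! ### the largest `p`-reduced normal subgroup, relative form -/

theorem largestPReduced_isPReduced [Finite G] {p : ℕ} [Fact p.Prime] :
    Cfsg.IsPReducedNormal p (Cfsg.largestPReduced p G) := by
  have h1 : {V : Subgroup G | Cfsg.IsPReducedNormal p V} = {V | PRin p ⊤ V} := by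
    ext V
    exact isPReducedNormal_iff_PRin_top
  unfold Cfsg.largestPReduced
  rw [h1]
  exact isPReducedNormal_iff_PRin_top.2 (PRin_sSup ⊤)

theorem PRin_largestOf [Finite G] {p : ℕ} [Fact p.Prime] (K : Subgroup G) :
    PRin p K (Cfsg.largestPReducedOf p K) :=
  isPReducedNormal_subtype_iff.1 largestPReduced_isPReduced

theorem PRin.le_largestOf {p : ℕ} {K V : Subgroup G} (h : PRin p K V) :
    V ≤ Cfsg.largestPReducedOf p K := by
  have h1 : Cfsg.IsPReducedNormal p (V.subgroupOf K) := by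
    rw [isPReducedNormal_subtype_iff, Subgroup.map_subgroupOf_eq_of_le h.1]
    exact h
  have h2 : V.subgroupOf K ≤ Cfsg.largestPReduced p K := le_sSup h1
  have h3 := Subgroup.map_mono (f := K.subtype) h2
  rwa [Subgroup.map_subgroupOf_eq_of_le h.1] at h3

theorem PRin_largest [Finite G] {p : ℕ} [Fact p.Prime] :
    PRin p ⊤ (Cfsg.largestPReduced p G) :=
  isPReducedNormal_iff_PRin_top.1 largestPReduced_isPReduced

theorem PRin.le_largest {p : ℕ} {V : Subgroup G} (h : PRin p ⊤ V) :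
    V ≤ Cfsg.largestPReduced p G :=
  le_sSup (isPReducedNormal_iff_PRin_top.2 h)

/-! ### subnormal subgroups acting as `p`-groups -/

theorem IsPReducedNormal.le_centralizer_of_isSubnormal {p : ℕ} {V D : Subgroup G}
    (hV : Cfsg.IsPReducedNormal p V) (hD : D.IsSubnormal)
    (hp : ∀ d ∈ D, ∃ k : ℕ, d ^ (p ^ k) ∈ Subgroup.centralizer (V : Set G)) :
    D ≤ Subgroup.centralizer (V : Set G) := by
  obtain ⟨_, _, hCn, hcore⟩ := hV
  have h1 : (D.map (QuotientGroup.mk' (Subgroup.centralizer (V : Set G)))).IsSubnormal :=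
    hD.map (QuotientGroup.mk'_surjective _)
  have h2 : IsPGroup p (D.map (QuotientGroup.mk' (Subgroup.centralizer (V : Set G)))) := by
    rintro ⟨_, ⟨d, hd, rfl⟩⟩
    obtain ⟨k, hk⟩ := hp d hd
    refine ⟨k, ?_⟩
    apply Subtype.ext
    simp only [QuotientGroup.mk'_apply, SubmonoidClass.mk_pow, OneMemClass.coe_one]
    rw [← QuotientGroup.mk_pow]
    exact (QuotientGroup.eq_one_iff _).2 hk
  have h3 := le_pCore_of_isSubnormal h1 h2
  rw [hcore, le_bot_iff, Subgroup.map_eq_bot_iff, QuotientGroup.ker_mk'] at h3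
  exact h3

/-- `D ◁ L ◁ K` acting as a `p`-group on a `p`-reduced normal subgroup `V` of `K` -/
theorem PRin.le_centralizer_of_normal_normal {p : ℕ} {K L D V : Subgroup G} (hV : PRin p K V)
    (hLK : L ≤ K) (hKL : K ≤ Subgroup.normalizer (L : Set G)) (hDL : D ≤ L)
    (hLD : L ≤ Subgroup.normalizer (D : Set G))
    (hp : ∀ d ∈ D, ∃ k : ℕ, d ^ (p ^ k) ∈ Subgroup.centralizer (V : Set G)) :
    D ≤ Subgroup.centralizer (V : Set G) := by
  have h1 : Cfsg.IsPReducedNormal p (V.subgroupOf K) := by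
    rw [isPReducedNormal_subtype_iff, Subgroup.map_subgroupOf_eq_of_le hV.1]
    exact hV
  have hLn : (L.subgroupOf K).Normal := (Subgroup.normal_subgroupOf_iff_le_normalizer hLK).2 hKL
  have hle : D.subgroupOf K ≤ L.subgroupOf K := fun x hx => hDL hx
  have h2 : (D.subgroupOf K).IsSubnormal := by
    refine Subgroup.IsSubnormal.step _ (L.subgroupOf K) hle hLn.isSubnormal ?_
    rw [Subgroup.normal_subgroupOf_iff_le_normalizer hle]
    intro l hl
    rw [Subgroup.mem_normalizer_iff]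
    intro n
    exact Subgroup.mem_normalizer_iff.1 (hLD hl) n.1
  have h3 := IsPReducedNormal.le_centralizer_of_isSubnormal h1 h2 (by
    intro d hd
    obtain ⟨k, hk⟩ := hp d.1 hd
    refine ⟨k, mem_centralizer_subtype.2 ?_⟩
    rw [Subgroup.map_subgroupOf_eq_of_le hV.1]
    simpa using hk)
  intro d hd
  have h4 := mem_centralizer_subtype.1 (h3 (show (⟨d, hLK (hDL hd)⟩ : K) ∈ D.subgroupOf K from hd))
  rwa [Subgroup.map_subgroupOf_eq_of_le hV.1] at h4

/-- a power `d^(p^e)` which is a `p'`-element -/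
theorem exists_pow_coprime [Finite G] (p : ℕ) [Fact p.Prime] :
    ∃ e : ℕ, ∀ d : G, Nat.Coprime (orderOf (d ^ (p ^ e))) p := by
  obtain ⟨m, e, hm, hme⟩ := exists_pprime_exponent G p
  refine ⟨e, fun d => ?_⟩
  have h1 : (d ^ (p ^ e)) ^ m = 1 := by
    rw [← pow_mul, mul_comm, pow_mul]
    exact hme d
  exact Nat.Coprime.coprime_dvd_left (orderOf_dvd_of_pow_eq_one h1) hm

/-- (R2) the meet of a `p`-reduced normal subgroup of `K` with a normal subgroup `L` -/
theorem PRin.inf_normal [Finite G] {p : ℕ} [Fact p.Prime] {K L V : Subgroup G} (hV : PRin p K V)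
    (hLK : L ≤ K) (hKL : K ≤ Subgroup.normalizer (L : Set G)) : PRin p L (V ⊓ L) := by
  refine ⟨inf_le_right, ?_, isElementaryAbelian_of_le inf_le_left hV.2.2.1, ?_⟩
  · intro x hx
    exact normalizer_inf_le_normalizer_inf _ _ ⟨hV.2.1 (hLK hx), Subgroup.le_normalizer hx⟩
  · intro D hDL hLD hp
    refine le_trans ?_ (Subgroup.centralizer_le (inf_le_left : V ⊓ L ≤ V))
    apply hV.le_centralizer_of_normal_normal hLK hKL hDL hLD
    obtain ⟨e, he⟩ := exists_pow_coprime (G := G) p
    intro d hd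
    refine ⟨e, ?_⟩
    have hx : d ^ (p ^ e) ∈ D := D.pow_mem hd _
    have hxc : d ^ (p ^ e) ∈ Subgroup.centralizer ((V ⊓ L : Subgroup G) : Set G) := by
      obtain ⟨k, hk⟩ := hp _ hx
      exact mem_of_pow_mem_of_coprime_order _ hk (he d)
    apply coprime_centralizes_two_step
      ((IsElementaryAbelian.isPGroup hV.2.2.1).to_le (inf_le_left : V ⊓ L ≤ V)) _ _ (he d)
    · intro a ha
      generalize d ^ (p ^ e) = x at hx hxc
      constructor
      · exact V.mul_mem (mem_normalizer_conj (hV.2.1 (hLK (hDL hx))) ha) (V.inv_mem ha)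
      · have h2 : x * a * x⁻¹ * a⁻¹ = x * (a * x⁻¹ * a⁻¹) := by group
        show x * a * x⁻¹ * a⁻¹ ∈ L
        rw [h2]
        exact L.mul_mem (hDL hx) (mem_normalizer_conj (hKL (hV.1 ha)) (L.inv_mem (hDL hx)))
    · intro a ha
      exact (Subgroup.mem_centralizer_iff.1 hxc a ha).symm

/-- (R4) -/
theorem PRin.inf_centralizer_inf_le [Finite G] {p : ℕ} [Fact p.Prime] {K L V : Subgroup G}
    (hV : PRin p K V) (hLK : L ≤ K) (hKL : K ≤ Subgroup.normalizer (L : Set G)) :
    L ⊓ Subgroup.centralizer ((V ⊓ L : Subgroup G) : Set G) ≤ Subgroup.centralizer (V : Set G) := by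
  apply hV.2.2.2 _ (inf_le_left.trans hLK)
  · intro x hx
    apply normalizer_inf_le_normalizer_inf
    refine ⟨hKL hx, normalizer_le_normalizer_centralizer' _ ?_⟩
    exact normalizer_inf_le_normalizer_inf _ _ ⟨hV.2.1 hx, hKL hx⟩
  · intro d hd
    refine ⟨1, ?_⟩
    rw [pow_one, Subgroup.mem_centralizer_iff]
    intro a ha
    refine (pow_centralizes d V (V ⊓ L) p ?_ ?_ ?_ a ha).symm
    · intro a ha
      constructor
      · exact V.mul_mem (mem_normalizer_conj (hV.2.1 (hLK hd.1)) ha) (V.inv_mem ha)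
      · have h2 : d * a * d⁻¹ * a⁻¹ = d * (a * d⁻¹ * a⁻¹) := by group
        show d * a * d⁻¹ * a⁻¹ ∈ L
        rw [h2]
        exact L.mul_mem hd.1 (mem_normalizer_conj (hKL (hV.1 ha)) (L.inv_mem hd.1))
    · intro b hb
      exact (Subgroup.mem_centralizer_iff.1 hd.2 b hb).symm
    · intro b hb
      exact hV.2.2.1.2 b hb.1

/-- coprime action on an elementary abelian group: `C_U(X) ∩ [U,X] = 1` -/
theorem inf_commutator_eq_bot_of_coprime [Finite G] {p : ℕ} [Fact p.Prime] {U X : Subgroup G}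
    (hU : Cfsg.IsElementaryAbelian p U) (hXU : X ≤ Subgroup.normalizer (U : Set G))
    (hX : (Nat.card X).Coprime p) :
    (U ⊓ Subgroup.centralizer (X : Set G)) ⊓ ⁅U, X⁆ = ⊥ := by
  have : IsMulCommutative U := hU.1
  obtain ⟨N, hN1, hN2, hN3, hN4⟩ := exists_avg U X ⊥ hXU
  have hmem : ∀ u ∈ U, u ∈ U ⊓ Subgroup.centralizer (((⊥ : Subgroup G) : Subgroup G) : Set G) := by
    intro u hu
    refine ⟨hu, ?_⟩
    show u ∈ Subgroup.centralizer (((⊥ : Subgroup G) : Subgroup G) : Set G)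
    rw [Subgroup.mem_centralizer_iff]
    intro h hh
    rw [SetLike.mem_coe, Subgroup.mem_bot] at hh
    rw [hh]
    simp
  have hNone : N 1 = 1 := by
    have h1 := hN3 1 (hmem 1 U.one_mem) 1 (hmem 1 U.one_mem)
    rw [mul_one] at h1
    exact (mul_eq_left.1 h1.symm)
  let K₀ : Subgroup G :=
    { carrier := {u | u ∈ U ∧ N u = 1}
      one_mem' := ⟨U.one_mem, hNone⟩
      mul_mem' := by
        intro a b ha hb
        refine ⟨U.mul_mem ha.1 hb.1, ?_⟩
        rw [hN3 a (hmem a ha.1) b (hmem b hb.1), ha.2, hb.2, one_mul]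
      inv_mem' := by
        intro a ha
        refine ⟨U.inv_mem ha.1, ?_⟩
        have h1 := hN3 a⁻¹ (hmem _ (U.inv_mem ha.1)) a (hmem a ha.1)
        rw [inv_mul_cancel, hNone, ha.2, mul_one] at h1
        exact h1.symm }
  have hK₀ : ⁅U, X⁆ ≤ K₀ := by
    rw [Subgroup.commutator_le]
    intro u hu y hy
    have h1 : y * u⁻¹ * y⁻¹ ∈ U := mem_normalizer_conj (hXU hy) (U.inv_mem hu)
    have h2 : u * y * u⁻¹ * y⁻¹ = u * (y * u⁻¹ * y⁻¹) := by group
    show u * y * u⁻¹ * y⁻¹ ∈ K₀
    rw [h2]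
    refine ⟨U.mul_mem hu h1, ?_⟩
    rw [hN3 u (hmem u hu) _ (hmem _ h1)]
    have h3 := hN4 y ⟨⟨hXU hy, Subgroup.le_normalizer hy⟩, by
      rw [Subgroup.normalizer_eq_top]; exact Subgroup.mem_top y⟩ u⁻¹ (hmem _ (U.inv_mem hu))
    rw [← h3]
    have h4 := (hN1 u⁻¹ (hmem _ (U.inv_mem hu))).2
    have h5 := Subgroup.mem_centralizer_iff.1 h4 y hy
    rw [h5, mul_inv_cancel_right, ← hN3 u (hmem u hu) _ (hmem _ (U.inv_mem hu)), mul_inv_cancel,
      hNone]
  rw [eq_bot_iff]
  rintro w ⟨hw1, hw2⟩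
  have h1 := hN2 w (hmem w hw1.1) ⊥ (by
    intro g hg
    rw [Subgroup.mem_bot, Subgroup.mem_centralizer_iff.1 hw1.2 g hg]
    simp)
  rw [Subgroup.mem_bot, mul_inv_eq_one, (hK₀ hw2).2, Subgroup.relIndex_bot_left] at h1
  apply mem_of_pow_mem_of_coprime ⊥ (a := Nat.card X) (b := p) _ _ hX
  · rw [← h1]; exact Subgroup.one_mem _
  · rw [hU.2 w hw1.1]; exact Subgroup.one_mem _

/-- `D` acting as a `p`-group on `U`: fixed points of a Sylow subgroup are fixed points of `D` -/
theorem exists_pgroup_same_fixed [Finite G] {p : ℕ} [Fact p.Prime] {D U : Subgroup G}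
    (hDU : D ≤ Subgroup.normalizer (U : Set G))
    (hp : ∀ d ∈ D, ∃ k : ℕ, d ^ (p ^ k) ∈ Subgroup.centralizer (U : Set G)) :
    ∃ P : Subgroup G, P ≤ D ∧ IsPGroup p P ∧
      U ⊓ Subgroup.centralizer (P : Set G) ≤ Subgroup.centralizer (D : Set G) := by
  obtain ⟨P'⟩ : Nonempty (Sylow p D) := inferInstance
  refine ⟨(P' : Subgroup D).map D.subtype, Subgroup.map_subtype_le _,
    isPGroup_map_subtype.2 P'.2, ?_⟩
  intro w hw
  have hCn : ((Subgroup.centralizer (U : Set G)).subgroupOf D).Normal :=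
    Subgroup.normal_subgroupOf_of_le_normalizer
      (hDU.trans (normalizer_le_normalizer_centralizer' U))
  have h1 := normal_le_of_sylow_inf P' ⊤ ((Subgroup.centralizer (U : Set G)).subgroupOf D)
    ((Subgroup.centralizer ({w} : Set G)).subgroupOf D)
    (by
      intro d _
      obtain ⟨k, hk⟩ := hp d.1 d.2
      exact ⟨k, by simpa [Subgroup.mem_subgroupOf] using hk⟩)
    (by
      rintro x ⟨-, hx⟩
      rw [Subgroup.mem_subgroupOf, Subgroup.mem_centralizer_singleton_iff]
      exact (Subgroup.mem_centralizer_iff.1 hw.2 x.1 ⟨x, hx, rfl⟩)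
      )
    (by
      rintro x ⟨-, hx⟩
      rw [Subgroup.mem_subgroupOf, Subgroup.mem_centralizer_singleton_iff]
      have hx' : (x : G) ∈ Subgroup.centralizer (U : Set G) := hx
      exact (Subgroup.mem_centralizer_iff.1 hx' w hw.1).symm)
  rw [Subgroup.mem_centralizer_iff]
  intro d hd
  have h2 := h1 (Subgroup.mem_top (⟨d, hd⟩ : D))
  rw [Subgroup.mem_subgroupOf, Subgroup.mem_centralizer_singleton_iff] at h2
  exact h2

/-- a `P × Q`-type lemma where the two actions commute only modulo `C(U)` -/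
theorem mem_centralizer_of_commuting_actions [Finite G] {p : ℕ} [Fact p.Prime] {U D : Subgroup G}
    {x : G} (hU : Cfsg.IsElementaryAbelian p U) (hxU : x ∈ Subgroup.normalizer (U : Set G))
    (hDU : D ≤ Subgroup.normalizer (U : Set G))
    (hp : ∀ d ∈ D, ∃ k : ℕ, d ^ (p ^ k) ∈ Subgroup.centralizer (U : Set G))
    (hcomm : ∀ e ∈ D, ∀ y ∈ Subgroup.zpowers x, e * y * e⁻¹ * y⁻¹ ∈ Subgroup.centralizer (U : Set G))
    (hx : x ∈ Subgroup.centralizer ((U ⊓ Subgroup.centralizer (D : Set G) : Subgroup G) : Set G))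
    (hc : Nat.Coprime (orderOf x) p) : x ∈ Subgroup.centralizer (U : Set G) := by
  have hXU : Subgroup.zpowers x ≤ Subgroup.normalizer (U : Set G) := Subgroup.zpowers_le.2 hxU
  have hXc : (Nat.card (Subgroup.zpowers x)).Coprime p := by
    rw [Nat.card_zpowers]
    exact hc
  obtain ⟨P, hPD, hPp, hPfix⟩ := exists_pgroup_same_fixed hDU hp
  have hWU : ⁅U, Subgroup.zpowers x⁆ ≤ U := commutator_le_of_le_normalizer hXU
  by_cases hW : ⁅U, Subgroup.zpowers x⁆ = ⊥
  · have h1 := Subgroup.commutator_eq_bot_iff_le_centralizer.1 hW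
    exact (Subgroup.le_centralizer_iff.1 h1) (Subgroup.mem_zpowers x)
  · exfalso
    have hDW : D ≤ Subgroup.normalizer ((⁅U, Subgroup.zpowers x⁆ : Subgroup G) : Set G) := by
      apply le_normalizer_of_conj_mem
      intro e he z hz
      have h1 : ⁅U, Subgroup.zpowers x⁆ ≤
          (⁅U, Subgroup.zpowers x⁆ : Subgroup G).comap (MulAut.conj e).toMonoidHom := by
        rw [Subgroup.commutator_le]
        intro u hu y hy
        rw [Subgroup.mem_comap]
        show (MulAut.conj e).toMonoidHom (u * y * u⁻¹ * y⁻¹) ∈ ⁅U, Subgroup.zpowers x⁆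
        have hu' : e * u * e⁻¹ ∈ U := mem_normalizer_conj (hDU he) hu
        have ht : y * (e * u * e⁻¹)⁻¹ * y⁻¹ ∈ U := mem_normalizer_conj (hXU hy) (U.inv_mem hu')
        have hct := Subgroup.mem_centralizer_iff.1 (hcomm e he y hy) _ ht
        have h2 : (MulAut.conj e).toMonoidHom (u * y * u⁻¹ * y⁻¹) =
            (e * u * e⁻¹) * y * (e * u * e⁻¹)⁻¹ * y⁻¹ := by
          simp only [MulEquiv.coe_toMonoidHom, MulAut.conj_apply]
          calc e * (u * y * u⁻¹ * y⁻¹) * e⁻¹
              = (e * u * e⁻¹) * ((e * y * e⁻¹ * y⁻¹) * (y * (e * u * e⁻¹)⁻¹ * y⁻¹)) *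
                  (e * y * e⁻¹ * y⁻¹)⁻¹ := by group
            _ = (e * u * e⁻¹) * ((y * (e * u * e⁻¹)⁻¹ * y⁻¹) * (e * y * e⁻¹ * y⁻¹)) *
                  (e * y * e⁻¹ * y⁻¹)⁻¹ := by rw [hct]
            _ = (e * u * e⁻¹) * y * (e * u * e⁻¹)⁻¹ * y⁻¹ := by group
        rw [h2]
        exact Subgroup.commutator_mem_commutator hu' hy
      exact h1 hz
    obtain ⟨w, hwW, hw1, hwP⟩ := exists_ne_one_mem_centralizer hPp
      ((IsElementaryAbelian.isPGroup hU).to_le hWU) hW (hPD.trans hDW)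
    have hwD : w ∈ U ⊓ Subgroup.centralizer (D : Set G) := ⟨hWU hwW, hPfix ⟨hWU hwW, hwP⟩⟩
    have hwX : w ∈ Subgroup.centralizer ((Subgroup.zpowers x : Subgroup G) : Set G) :=
      (Subgroup.le_centralizer_iff.1 (Subgroup.zpowers_le.2 hx)) hwD
    have h3 : w ∈ (U ⊓ Subgroup.centralizer ((Subgroup.zpowers x : Subgroup G) : Set G)) ⊓
        ⁅U, Subgroup.zpowers x⁆ := ⟨⟨hWU hwW, hwX⟩, hwW⟩
    rw [inf_commutator_eq_bot_of_coprime hU hXU hXc, Subgroup.mem_bot] at h3
    exact hw1 h3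

/-- (R3) inside a `K`-invariant `p`-reduced normal subgroup `U` of `L ◁ K` there is a `p`-reduced
normal subgroup of `K` with the same centralizer in `L` -/
theorem exists_PRin_le [Finite G] {p : ℕ} [Fact p.Prime] {K L : Subgroup G} (hLK : L ≤ K)
    (hKL : K ≤ Subgroup.normalizer (L : Set G)) :
    ∀ (n : ℕ) (U : Subgroup G), Nat.card U ≤ n → PRin p L U →
      K ≤ Subgroup.normalizer (U : Set G) →
      ∃ U' : Subgroup G, U' ≤ U ∧ PRin p K U' ∧
        L ⊓ Subgroup.centralizer (U' : Set G) ≤ Subgroup.centralizer (U : Set G) := by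
  intro n
  induction n with
  | zero =>
    intro U hn _ _
    exact absurd hn (by have := Nat.card_pos (α := U); omega)
  | succ n ih =>
    intro U hn hU hKU
    by_cases hPR : PRin p K U
    · exact ⟨U, le_rfl, hPR, inf_le_right⟩
    · have h1 : ∃ D : Subgroup G, D ≤ K ∧ K ≤ Subgroup.normalizer (D : Set G) ∧
          (∀ d ∈ D, ∃ k : ℕ, d ^ (p ^ k) ∈ Subgroup.centralizer (U : Set G)) ∧
          ¬ D ≤ Subgroup.centralizer (U : Set G) := by
        by_contra hcon
        push Not at hcon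
        exact hPR ⟨hU.1.trans hLK, hKU, hU.2.2.1, hcon⟩
      obtain ⟨D, hDK, hKD, hDp, hDU⟩ := h1
      have hKU₁ : K ≤ Subgroup.normalizer
          ((U ⊓ Subgroup.centralizer (D : Set G) : Subgroup G) : Set G) := fun x hx =>
        normalizer_inf_le_normalizer_inf _ _
          ⟨hKU hx, normalizer_le_normalizer_centralizer' _ (hKD hx)⟩
      have hDL : D ⊓ L ≤ Subgroup.centralizer (U : Set G) := by
        apply hU.2.2.2 _ inf_le_right
        · intro x hx
          exact normalizer_inf_le_normalizer_inf _ _ ⟨hKD (hLK hx), Subgroup.le_normalizer hx⟩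
        · intro d hd
          exact hDp d hd.1
      have hkey : L ⊓ Subgroup.centralizer
          ((U ⊓ Subgroup.centralizer (D : Set G) : Subgroup G) : Set G) ≤
          Subgroup.centralizer (U : Set G) := by
        apply hU.2.2.2 _ inf_le_left
        · intro x hx
          exact normalizer_inf_le_normalizer_inf _ _ ⟨Subgroup.le_normalizer hx,
            normalizer_le_normalizer_centralizer' _ (hKU₁ (hLK hx))⟩
        · obtain ⟨e, he⟩ := exists_pow_coprime (G := G) p
          intro d hd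
          refine ⟨e, ?_⟩
          have hxL : d ^ (p ^ e) ∈ L := L.pow_mem hd.1 _
          apply mem_centralizer_of_commuting_actions hU.2.2.1 (hU.2.1 hxL) (hDK.trans hKU) hDp _
            (Subgroup.pow_mem _ hd.2 _) (he d)
          intro a ha y hy
          have hyL : y ∈ L := (Subgroup.zpowers_le.2 hxL) hy
          apply hDL
          constructor
          · have h2 : a * y * a⁻¹ * y⁻¹ = a * (y * a⁻¹ * y⁻¹) := by group
            rw [h2]
            exact D.mul_mem ha (mem_normalizer_conj (hKD (hLK hyL)) (D.inv_mem ha))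
          · exact L.mul_mem (mem_normalizer_conj (hKL (hDK ha)) hyL) (L.inv_mem hyL)
      have hU₁ : PRin p L (U ⊓ Subgroup.centralizer (D : Set G)) := by
        refine ⟨inf_le_left.trans hU.1, hLK.trans hKU₁,
          isElementaryAbelian_of_le inf_le_left hU.2.2.1, ?_⟩
        intro D' hD'L hLD' hD'p
        refine le_trans ?_ (Subgroup.centralizer_le
          (inf_le_left : U ⊓ Subgroup.centralizer (D : Set G) ≤ U))
        apply hU.2.2.2 D' hD'L hLD'
        intro d hd
        obtain ⟨k, hk⟩ := hD'p d hd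
        exact ⟨k, hkey ⟨L.pow_mem (hD'L hd) _, hk⟩⟩
      have hlt : Nat.card (U ⊓ Subgroup.centralizer (D : Set G) : Subgroup G) < Nat.card U := by
        have hss : (U ⊓ Subgroup.centralizer (D : Set G) : Subgroup G) < U := by
          refine lt_of_le_of_ne inf_le_left ?_
          intro h
          apply hDU
          rw [Subgroup.le_centralizer_iff]
          exact inf_eq_left.1 h
        exact Set.ncard_lt_ncard (SetLike.coe_ssubset_coe.2 hss) (Set.toFinite _)
      obtain ⟨U', hU'1, hU'2, hU'3⟩ := ih _ (by omega) hU₁ hKU₁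
      exact ⟨U', hU'1.trans inf_le_left, hU'2, (le_inf inf_le_left hU'3).trans hkey⟩

/-- conjugates of `p`-reduced normal subgroups -/
theorem PRin.conj {p : ℕ} {L V : Subgroup G} (h : PRin p L V) {g : G}
    (hg : g ∈ Subgroup.normalizer (L : Set G)) :
    PRin p L (V.map (MulAut.conj g).toMonoidHom) := by
  have hcent : ∀ (g : G) (A : Subgroup G) (d : G), d ∈ Subgroup.centralizer
      ((A.map (MulAut.conj g).toMonoidHom : Subgroup G) : Set G) →
      g⁻¹ * d * g ∈ Subgroup.centralizer (A : Set G) := by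
    intro g A d hd
    rw [Subgroup.mem_centralizer_iff]
    intro a ha
    have h1 := Subgroup.mem_centralizer_iff.1 hd (g * a * g⁻¹) ⟨a, ha, by simp⟩
    calc a * (g⁻¹ * d * g) = g⁻¹ * ((g * a * g⁻¹) * d) * g := by group
      _ = g⁻¹ * (d * (g * a * g⁻¹)) * g := by rw [h1]
      _ = g⁻¹ * d * g * a := by group
  have hnorm : ∀ (g : G), g ∈ Subgroup.normalizer (L : Set G) → ∀ A : Subgroup G,
      L ≤ Subgroup.normalizer (A : Set G) →
      L ≤ Subgroup.normalizer ((A.map (MulAut.conj g).toMonoidHom : Subgroup G) : Set G) := by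
    intro g hg A hA
    apply le_normalizer_of_conj_mem
    intro l hl x hx
    rw [mem_map_conj] at hx ⊢
    have h1 : g⁻¹ * (l * x * l⁻¹) * g = (g⁻¹ * l * g) * (g⁻¹ * x * g) * (g⁻¹ * l * g)⁻¹ := by group
    rw [h1]
    exact mem_normalizer_conj (hA (mem_normalizer_conj' hg hl)) hx
  have hle : ∀ (g : G), g ∈ Subgroup.normalizer (L : Set G) → ∀ A : Subgroup G, A ≤ L →
      A.map (MulAut.conj g).toMonoidHom ≤ L := by
    rintro g hg A hA _ ⟨a, ha, rfl⟩
    exact mem_normalizer_conj hg (hA ha)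
  refine ⟨hle g hg V h.1, hnorm g hg V h.2.1, ⟨⟨⟨?_⟩⟩, ?_⟩, ?_⟩
  · rintro ⟨_, a, ha, rfl⟩ ⟨_, b, hb, rfl⟩
    apply Subtype.ext
    have h1 := congrArg Subtype.val (h.2.2.1.1.is_comm.comm ⟨a, ha⟩ ⟨b, hb⟩)
    show (MulAut.conj g).toMonoidHom a * (MulAut.conj g).toMonoidHom b =
      (MulAut.conj g).toMonoidHom b * (MulAut.conj g).toMonoidHom a
    rw [← map_mul, ← map_mul]
    exact congrArg _ h1
  · rintro _ ⟨a, ha, rfl⟩
    rw [← map_pow, h.2.2.1.2 a ha, map_one]
  · intro D hDL hLD hDp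
    have hg' : g⁻¹ ∈ Subgroup.normalizer (L : Set G) := Subgroup.inv_mem _ hg
    have h1 := h.2.2.2 (D.map (MulAut.conj g⁻¹).toMonoidHom) (hle g⁻¹ hg' D hDL)
      (hnorm g⁻¹ hg' D hLD) (by
        rintro _ ⟨d, hd, rfl⟩
        obtain ⟨k, hk⟩ := hDp d hd
        refine ⟨k, ?_⟩
        rw [← map_pow]
        have := hcent g V _ hk
        simpa using this)
    intro d hd
    have h2 : g⁻¹ * d * g ∈ Subgroup.centralizer (V : Set G) := h1 ⟨d, hd, by simp⟩
    rw [Subgroup.mem_centralizer_iff]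
    rintro _ ⟨a, ha, rfl⟩
    have h3 := Subgroup.mem_centralizer_iff.1 h2 a ha
    show (g * a * g⁻¹) * d = d * (g * a * g⁻¹)
    calc (g * a * g⁻¹) * d = g * (a * (g⁻¹ * d * g)) * g⁻¹ := by group
      _ = g * ((g⁻¹ * d * g) * a) * g⁻¹ := by rw [h3]
      _ = d * (g * a * g⁻¹) := by group

theorem normalizer_le_normalizer_largestOf [Finite G] {p : ℕ} [Fact p.Prime] (L : Subgroup G) :
    Subgroup.normalizer (L : Set G) ≤
      Subgroup.normalizer (Cfsg.largestPReducedOf p L : Set G) := by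
  apply le_normalizer_of_conj_mem
  intro g hg x hx
  exact ((PRin_largestOf L).conj hg).le_largestOf ⟨x, hx, by simp⟩

/-- normal step for the centralizers of the largest `p`-reduced normal subgroups -/
theorem inf_centralizer_largestOf_le [Finite G] {p : ℕ} [Fact p.Prime] {K L : Subgroup G}
    (hLK : L ≤ K) (hKL : K ≤ Subgroup.normalizer (L : Set G)) :
    L ⊓ Subgroup.centralizer (Cfsg.largestPReducedOf p K : Set G) ≤
      Subgroup.centralizer (Cfsg.largestPReducedOf p L : Set G) := by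
  obtain ⟨U', _, hU'2, hU'3⟩ := exists_PRin_le hLK hKL _ (Cfsg.largestPReducedOf p L) le_rfl
    (PRin_largestOf L) (hKL.trans (normalizer_le_normalizer_largestOf L))
  exact (inf_le_inf_left L (Subgroup.centralizer_le hU'2.le_largestOf)).trans hU'3

end Cfsg.Agent.Lib.Helper52
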