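import Mathlib
import Cfsg.Prelude.Def_LocalStructure
import Cfsg.Agent.Lib.Helper52.Misc

set_option autoImplicit false

namespace Cfsg.Agent.Lib.Helper52

variable {G : Type*} [Group G]

/-- normal subgroups of a quasisimple group are central or everything -/
theorem quasisimple_normal (hq : Cfsg.IsQuasisimple G) (N : Subgroup G) [hN : N.Normal] :
    N ≤ Subgroup.center G ∨ N = ⊤ := by
  obtain ⟨hperf, hsimp⟩ := hq
  have h1 : (N.map (QuotientGroup.mk' (Subgroup.center G))).Normal :=
    hN.map _ (QuotientGroup.mk'_surjective _)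
  rcases h1.eq_bot_or_eq_top with h | h
  · left
    intro x hx
    have h2 : QuotientGroup.mk' (Subgroup.center G) x ∈
        N.map (QuotientGroup.mk' (Subgroup.center G)) := Subgroup.mem_map_of_mem _ hx
    rw [h, Subgroup.mem_bot] at h2
    exact (QuotientGroup.eq_one_iff _).1 h2
  · right
    have h2 : N ⊔ Subgroup.center G = ⊤ := by
      have := congrArg (Subgroup.comap (QuotientGroup.mk' (Subgroup.center G))) h
      rwa [Subgroup.comap_map_eq, QuotientGroup.ker_mk', Subgroup.comap_top] at this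
    rw [eq_top_iff, ← hperf.commutator_eq_top, commutator_def, Subgroup.commutator_le]
    intro x _ y _
    have hx : x ∈ ((N ⊔ Subgroup.center G : Subgroup G) : Set G) := by
      rw [h2]; trivial
    rw [Subgroup.mul_normal] at hx
    obtain ⟨n, hn, z, hz, rfl⟩ := hx
    have hz' := Subgroup.mem_center_iff.1 hz
    have e : n * z * y * (n * z)⁻¹ * y⁻¹ = n * (y * n⁻¹ * y⁻¹) := by
      calc n * z * y * (n * z)⁻¹ * y⁻¹ = n * (z * y) * z⁻¹ * n⁻¹ * y⁻¹ := by group
        _ = n * (y * z) * z⁻¹ * n⁻¹ * y⁻¹ := by rw [hz' y]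
        _ = _ := by group
    show n * z * y * (n * z)⁻¹ * y⁻¹ ∈ N
    rw [e]
    exact N.mul_mem hn (hN.conj_mem _ (N.inv_mem hn) y)

/-- relative form -/
theorem quasisimple_normal_rel {K M : Subgroup G} (hq : Cfsg.IsQuasisimple K) (hMK : M ≤ K)
    (hKM : K ≤ Subgroup.normalizer (M : Set G)) :
    M ≤ Subgroup.centralizer (K : Set G) ∨ M = K := by
  have hn : (M.subgroupOf K).Normal := (Subgroup.normal_subgroupOf_iff_le_normalizer hMK).2 hKM
  rcases quasisimple_normal hq (M.subgroupOf K) with h | h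
  · left
    intro m hm
    have h1 := h (show (⟨m, hMK hm⟩ : K) ∈ M.subgroupOf K from hm)
    rw [Subgroup.mem_center_iff] at h1
    rw [Subgroup.mem_centralizer_iff]
    intro k hk
    exact congrArg Subtype.val (h1 ⟨k, hk⟩)
  · right
    rw [Subgroup.subgroupOf_eq_top] at h
    exact le_antisymm hMK h

theorem quasisimple_commutator_self {K : Subgroup G} (hq : Cfsg.IsQuasisimple K) : ⁅K, K⁆ = K :=
  Subgroup.isPerfect_iff.1 hq.1

theorem quasisimple_not_le_centralizer {K : Subgroup G} (hq : Cfsg.IsQuasisimple K) :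
    ¬ K ≤ Subgroup.centralizer (K : Set G) := by
  intro h
  have h1 : Subgroup.center K = ⊤ := by
    rw [eq_top_iff]
    intro x _
    rw [Subgroup.mem_center_iff]
    intro g
    apply Subtype.ext
    exact Subgroup.mem_centralizer_iff.1 (h x.2) g g.2
  have h2 := hq.2
  have h3 : Subsingleton (↥K ⧸ Subgroup.center K) := by
    rw [h1]
    exact QuotientGroup.subsingleton_quotient_top
  have := h2.toNontrivial
  exact not_subsingleton _ h3

/-- if `[X, K] ≤ Z(K)` for a perfect `K` then `X` centralizes `K` -/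
theorem centralizes_of_commutator_le_centralizer {K X : Subgroup G} (hK : ⁅K, K⁆ = K)
    (h : ⁅X, K⁆ ≤ Subgroup.centralizer (K : Set G)) : X ≤ Subgroup.centralizer (K : Set G) := by
  have h1 : ⁅⁅X, K⁆, K⁆ = ⊥ := Subgroup.commutator_eq_bot_iff_le_centralizer.2 h
  have h2 : ⁅⁅K, X⁆, K⁆ = ⊥ := by rw [Subgroup.commutator_comm K X]; exact h1
  have h3 : ⁅⁅K, K⁆, X⁆ = ⊥ := Subgroup.commutator_commutator_eq_bot_of_rotate h2 h1
  rw [hK, Subgroup.commutator_comm] at h3
  exact Subgroup.commutator_eq_bot_iff_le_centralizer.1 h3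

/-- a perfect subgroup lies in `O^p` -/
theorem perfect_le_pResidual [Finite G] {p : ℕ} [Fact p.Prime] {X : Subgroup G} (hX : ⁅X, X⁆ = X) :
    X ≤ Cfsg.pResidual p G := by
  have hn : (Cfsg.pResidual p G).Normal := by
    rw [← pResOf_top, ← Subgroup.normalizer_eq_top_iff, eq_top_iff]
    refine le_trans ?_ (normalizer_le_normalizer_pResOf p ⊤)
    rw [Subgroup.normalizer_eq_top]
  have hQ : IsPGroup p (G ⧸ Cfsg.pResidual p G) := by
    intro x
    obtain ⟨x, rfl⟩ := QuotientGroup.mk'_surjective _ x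
    obtain ⟨k, hk⟩ := exists_pow_mem_pResOf (p := p) (Subgroup.mem_top x)
    refine ⟨k, ?_⟩
    rw [QuotientGroup.mk'_apply, ← QuotientGroup.mk_pow]
    apply (QuotientGroup.eq_one_iff _).2
    rwa [pResOf_top] at hk
  have hnil : Group.IsNilpotent (G ⧸ Cfsg.pResidual p G) := hQ.isNilpotent
  have hsol : Group.IsSolvable (G ⧸ Cfsg.pResidual p G) := inferInstance
  obtain ⟨n, hn'⟩ := hsol.solvable
  have h1 : ∀ n, X.map (QuotientGroup.mk' (Cfsg.pResidual p G)) ≤
      derivedSeries (G ⧸ Cfsg.pResidual p G) n := by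
    intro n
    induction n with
    | zero => exact le_top
    | succ n ih =>
      rw [derivedSeries_succ]
      calc X.map (QuotientGroup.mk' (Cfsg.pResidual p G))
          = ⁅X.map (QuotientGroup.mk' (Cfsg.pResidual p G)),
              X.map (QuotientGroup.mk' (Cfsg.pResidual p G))⁆ := by
            rw [← Subgroup.map_commutator, hX]
        _ ≤ _ := Subgroup.commutator_mono ih ih
  intro x hx
  have h2 := h1 n (Subgroup.mem_map_of_mem _ hx)
  rw [hn', Subgroup.mem_bot] at h2
  exact (QuotientGroup.eq_one_iff _).1 h2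

end Cfsg.Agent.Lib.Helper52
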