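import Cfsg.Agent.Lib.Helper52.WCTrace
import Cfsg.Agent.Lib.Helper39.PCoreOf
import Cfsg.Agent.Lib.Helper15.ZJ
import Cfsg.Agent.Lib.Helper57.Replacement

set_option autoImplicit false

/-! Preparations for the weak closure theorem for `Z(N(J(S)))`: unique maximal overgroup of a
Sylow subgroup, offenders. -/

namespace Cfsg.Agent.Lib.Helper52.WC

open Cfsg.Agent.Lib.Helper39 Cfsg.Agent.Lib.Helper15.ZJ

variable {H : Type*} [Group H] [Finite H] {p : ℕ} [Fact p.Prime]

/-- if every proper overgroup of the Sylow subgroup `T` centralizes `x` but `x` is not central, then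
`T ∩ N` is normal for every normal subgroup `N` centralizing `x`. -/
theorem um_normal (T : Sylow p H) (x : H)
    (hmax : ∀ K : Subgroup H, (T : Subgroup H) ≤ K → K ≠ ⊤ → ∀ k ∈ K, k * x = x * k)
    (hnc : ¬ ∀ h : H, h * x = x * h) (N : Subgroup H) (hNn : N.Normal)
    (hN : ∀ n ∈ N, n * x = x * n) : ((T : Subgroup H) ⊓ N).Normal := by
  by_contra hcon
  have h1 : Subgroup.normalizer (((T : Subgroup H) ⊓ N : Subgroup H) : Set H) ≠ ⊤ := by
    intro h
    exact hcon (Subgroup.normalizer_eq_top_iff.1 h)
  have h2 : (T : Subgroup H) ≤ Subgroup.normalizer (((T : Subgroup H) ⊓ N : Subgroup H) : Set H) :=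
    le_normalizer_inf Subgroup.le_normalizer
      (by rw [Subgroup.normalizer_eq_top_iff.2 hNn]; exact le_top)
  have h3 := hmax _ h2 h1
  apply hnc
  intro h
  obtain ⟨d, hd, hdh⟩ := frattini_rel (H := ⊤) (T := (T : Subgroup H)) (D := N) le_top T.2
    (sylow_relIndex_top T) le_top (by rw [Subgroup.normalizer_eq_top_iff.2 hNn]) h (Subgroup.mem_top h)
  have h4 := h3 _ hdh
  have h5 := hN d hd
  have h6 : d * (h * x) = d * (x * h) := by
    calc d * (h * x) = d * h * x := by group
      _ = x * (d * h) := h4
      _ = (x * d) * h := by group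
      _ = (d * x) * h := by rw [h5]
      _ = d * (x * h) := by group
  exact mul_left_cancel h6

/-- a normal `p`-subgroup lies in every Sylow `p`-subgroup -/
theorem normal_le_sylow (T : Sylow p H) {R : Subgroup H} (hRn : R.Normal) (hR : IsPGroup p R) :
    R ≤ T := by
  obtain ⟨h, -, hle⟩ := exists_conj_le_of_relIndex (p := p) (H := ⊤) (R := (T : Subgroup H)) (Q := R)
    le_top T.2 (sylow_relIndex_top T) le_top hR
  rwa [cj_eq_of_mem_normalizer (by rw [Subgroup.normalizer_eq_top_iff.2 hRn]; exact Subgroup.mem_top h)] at hle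

theorem cj_of_normal' {N : Subgroup H} (hN : N.Normal) (g : H) : cj g N = N :=
  cj_eq_of_mem_normalizer (by rw [Subgroup.normalizer_eq_top_iff.2 hN]; exact Subgroup.mem_top g)

theorem cj_lt {A B : Subgroup H} (g : H) (h : A < B) : cj g A < cj g B := by
  refine lt_of_le_of_ne (cj_mono g h.le) ?_
  intro he
  have := congrArg (cj g⁻¹) he
  rw [cj_inv_cj, cj_inv_cj] at this
  exact h.ne this

/-- the normal closure of `x` centralizes every normal subgroup that `x` centralizes -/
theorem normalClosure_le_centralizer {x : H} {R : Subgroup H} (hRn : R.Normal)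
    (hx : ∀ r ∈ R, r * x = x * r) :
    Subgroup.normalClosure ({x} : Set H) ≤ Subgroup.centralizer (R : Set H) := by
  have hn : (Subgroup.centralizer (R : Set H)).Normal := by
    rw [← Subgroup.normalizer_eq_top_iff, eq_top_iff]
    refine le_trans ?_ (normalizer_le_normalizer_centralizer R)
    rw [Subgroup.normalizer_eq_top_iff.2 hRn]
  apply Subgroup.normalClosure_le_normal
  intro y hy
  rw [Set.mem_singleton_iff] at hy
  subst hy
  rw [SetLike.mem_coe, Subgroup.mem_centralizer_iff]
  exact hx

end Cfsg.Agent.Lib.Helper52.WC
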