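import Cfsg.Agent.Lib.Helper52.WCCore1

set_option autoImplicit false

/-! Offenders on a normal abelian subgroup, minimal offenders. -/

namespace Cfsg.Agent.Lib.Helper52.WC

open Cfsg.Agent.Lib.Helper39 Cfsg.Agent.Lib.Helper15.ZJ

theorem smul_div_fixed {𝒯 𝒱 : Type*} [Group 𝒯] [CommGroup 𝒱] [Finite 𝒱] [MulDistribMulAction 𝒯 𝒱]
    {p : ℕ} [hp : Fact p.Prime] (γ : 𝒯) (hγ : ∃ k : ℕ, γ ^ (p ^ k) = 1) (hV : IsPGroup p 𝒱)
    (K : Subgroup 𝒱) (hK : ∀ v, v ∈ K ↔ γ • v = v) (hidx : K.index ≤ p) (v : 𝒱) :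
    γ • ((γ • v) / v) = (γ • v) / v := by
  classical
  let φ : 𝒱 →* 𝒱 := MulDistribMulAction.toMonoidHom 𝒱 γ / MonoidHom.id 𝒱
  have hφ : ∀ w, φ w = (γ • w) / w := fun w => rfl
  have hker : φ.ker = K := by
    ext w
    rw [MonoidHom.mem_ker, hφ, hK, div_eq_one]
  have hcard : Nat.card φ.range = K.index := by rw [← hker, Subgroup.index_ker]
  -- the action of `zpowers γ` on the range
  let S : SubMulAction (Subgroup.zpowers γ) 𝒱 :=
    { carrier := (φ.range : Set 𝒱)
      smul_mem' := by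
        rintro ⟨c, k, rfl⟩ _ ⟨w, rfl⟩
        refine ⟨γ ^ k • w, ?_⟩
        change φ (γ ^ k • w) = γ ^ k • φ w
        rw [hφ, hφ, smul_div', ← mul_smul, ← mul_smul,
          (Commute.zpow_right (Commute.refl γ) k).eq] }
  have hSc : Nat.card S = Nat.card φ.range := rfl
  have hzp : IsPGroup p (Subgroup.zpowers γ) := by
    obtain ⟨k, hk⟩ := hγ
    rintro ⟨c, m, rfl⟩
    refine ⟨k, Subtype.ext ?_⟩
    change (γ ^ m) ^ p ^ k = 1
    rw [← zpow_natCast, ← zpow_mul, mul_comm, zpow_mul, zpow_natCast, hk, one_zpow]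
  by_cases h1 : Nat.card φ.range = 1
  · have : φ v = 1 := by
      have h2 := Subgroup.eq_bot_of_card_eq _ h1
      have h3 : φ v ∈ φ.range := ⟨v, rfl⟩
      rw [h2, Subgroup.mem_bot] at h3
      exact h3
    rw [← hφ, this, smul_one]
  · have hp' : Nat.card φ.range = p := by
      obtain ⟨n, hn⟩ := IsPGroup.iff_card.1 (hV.to_subgroup φ.range)
      rw [hcard] at hn h1
      rw [hcard]
      rw [hn] at hidx h1 ⊢
      rcases n with _ | _ | n
      · simp at h1
      · simp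
      · exfalso
        have : p ^ 1 < p ^ (n + 1 + 1) := Nat.pow_lt_pow_right hp.out.one_lt (by omega)
        rw [pow_one] at this
        omega
    have hfix : (⟨1, φ.range.one_mem⟩ : S) ∈ MulAction.fixedPoints (Subgroup.zpowers γ) S := by
      intro c
      apply Subtype.ext
      change c • (1 : 𝒱) = 1
      exact smul_one c
    obtain ⟨b, hb, hne⟩ := hzp.exists_fixed_point_of_prime_dvd_card_of_fixed_point S
      (by rw [hSc, hp']) hfix
    have hb1 : (b : 𝒱) ≠ 1 := by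
      intro h
      apply hne
      apply Subtype.ext
      exact h.symm
    have hbγ : γ • (b : 𝒱) = b := by
      have := hb ⟨γ, Subgroup.mem_zpowers γ⟩
      exact congrArg Subtype.val this
    have hbr : (b : 𝒱) ∈ φ.range := b.2
    have hpow : (⟨φ v, v, rfl⟩ : φ.range) ∈ Submonoid.powers (⟨b, hbr⟩ : φ.range) :=
      mem_powers_of_prime_card hp' (by
        intro h
        exact hb1 (congrArg Subtype.val h))
    obtain ⟨k, hk⟩ := hpow
    have hk' : (b : 𝒱) ^ k = φ v := congrArg Subtype.val hk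
    rw [← hφ, ← hk', smul_pow', hbγ]

variable {H : Type*} [Group H] [Finite H]

/-- `C_V(D)` -/
abbrev CV (V D : Subgroup H) : Subgroup H := V ⊓ Subgroup.centralizer (D : Set H)

/-- `D` (with `Q < D ≤ T`) is an offender on `V` -/
def Off (T V Q D : Subgroup H) : Prop :=
  Q < D ∧ D ≤ T ∧ Nat.card V * Nat.card Q ≤ Nat.card D * Nat.card (CV V D)

/-- the minimal offenders -/
def MinOff (T V Q : Subgroup H) : Set (Subgroup H) :=
  {D | Off T V Q D ∧ ∀ D' : Subgroup H, Off T V Q D' → D' ≤ D → D' = D}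

theorem Off.conj {T V Q D : Subgroup H} (hV : V.Normal) (hQ : Q.Normal) (h : Off T V Q D) (g : H)
    (hg : cj g D ≤ T) : Off T V Q (cj g D) := by
  refine ⟨?_, hg, ?_⟩
  · have := cj_lt g h.1
    rwa [cj_of_normal' hQ] at this
  · have h1 : CV V (cj g D) = cj g (CV V D) := by
      show V ⊓ _ = cj g (V ⊓ _)
      rw [cj_inf, cj_centralizer, cj_of_normal' hV]
    rw [h1, card_cj, card_cj]
    exact h.2.2

theorem MinOff.conj {T V Q D : Subgroup H} (hV : V.Normal) (hQ : Q.Normal) (h : D ∈ MinOff T V Q)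
    (g : H) (hg : cj g D ≤ T) : cj g D ∈ MinOff T V Q := by
  refine ⟨h.1.conj hV hQ g hg, ?_⟩
  intro D' hD' hle
  have h1 : cj g⁻¹ D' ≤ D := by
    have := cj_mono g⁻¹ hle
    rwa [cj_inv_cj] at this
  have h2 := h.2 _ (hD'.conj hV hQ g⁻¹ (h1.trans h.1.2.1)) h1
  rw [← h2, cj_cj_inv]

theorem exists_minOff_le {T V Q D : Subgroup H} (h : Off T V Q D) :
    ∃ D' ∈ MinOff T V Q, D' ≤ D := by
  obtain ⟨D', hD', hmin⟩ := (Set.toFinite {E : Subgroup H | Off T V Q E ∧ E ≤ D}).exists_minimal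
    ⟨D, h, le_rfl⟩
  refine ⟨D', ⟨hD'.1, ?_⟩, hD'.2⟩
  intro E hE hle
  exact le_antisymm hle (hmin ⟨hE, hle.trans hD'.2⟩ hle)

/-- a member of `𝒜_e(T)` not contained in `Q` gives an offender -/
theorem off_of_AE {e : ℕ} {T V Q A : Subgroup H} (hA : A ∈ AE e T) (hAQ : ¬ A ≤ Q)
    (hQn : Q.Normal) (hQT : Q ≤ T) (hVQ : V ≤ Q) (hV : PE e V)
    (hQV : Q ≤ Subgroup.centralizer (V : Set H)) : Off T V Q (A ⊔ Q) := by
  refine ⟨lt_of_le_of_ne le_sup_right ?_, sup_le hA.1 hQT, ?_⟩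
  · intro h
    apply hAQ
    rw [h]; exact le_sup_left
  · have hnQ : ∀ X : Subgroup H, X ≤ Subgroup.normalizer (Q : Set H) := by
      intro X
      rw [Subgroup.normalizer_eq_top_iff.2 hQn]; exact le_top
    have h1 := Cfsg.Agent.Lib.Helper57.card_sup_mul_card_inf' (hnQ A)
    -- the abelian subgroup `V (A ∩ Q)`
    have hcomm : ∀ a ∈ V, ∀ b ∈ A ⊓ Q, a * b = b * a := by
      intro a ha b hb
      exact (Subgroup.mem_centralizer_iff.1 (hQV hb.2) a ha)
    have hB : PE e (V ⊔ (A ⊓ Q)) := PE_sup hV (hA.2.1.mono inf_le_left) hcomm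
    have hBT : V ⊔ (A ⊓ Q) ≤ T := sup_le (hVQ.trans hQT) (inf_le_left.trans hA.1)
    have h2 := hA.2.2 _ hBT hB
    have hn2 : V ≤ Subgroup.normalizer ((A ⊓ Q : Subgroup H) : Set H) := by
      refine le_trans ?_ (Subgroup.centralizer_le_normalizer _)
      intro a ha
      rw [Subgroup.mem_centralizer_iff]
      intro b hb
      exact (hcomm a ha b hb).symm
    have h3 := Cfsg.Agent.Lib.Helper57.card_sup_mul_card_inf' hn2
    have h4 : V ⊓ (A ⊓ Q) = V ⊓ A := by
      apply le_antisymm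
      · exact inf_le_inf_left _ inf_le_left
      · exact le_inf inf_le_left (le_inf inf_le_right (inf_le_left.trans hVQ))
    rw [h4] at h3
    have h5 : V ⊓ A ≤ CV V (A ⊔ Q) := by
      refine le_inf inf_le_left ?_
      intro a ha
      have h6 : A ⊔ Q ≤ Subgroup.centralizer ({a} : Set H) := by
        apply sup_le
        · intro b hb
          rw [Subgroup.mem_centralizer_singleton_iff]
          exact hA.2.1.1 b hb a ha.2
        · intro b hb
          rw [Subgroup.mem_centralizer_singleton_iff]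
          exact (Subgroup.mem_centralizer_iff.1 (hQV hb) a ha.1).symm
      rw [Subgroup.mem_centralizer_iff]
      intro b hb
      exact Subgroup.mem_centralizer_singleton_iff.1 (h6 hb)
    have h7 : Nat.card (V ⊓ A : Subgroup H) ≤ Nat.card (CV V (A ⊔ Q)) := Subgroup.card_le_of_le h5
    have hpos : 0 < Nat.card (A ⊓ Q : Subgroup H) := Nat.card_pos
    apply Nat.le_of_mul_le_mul_right _ hpos
    calc Nat.card V * Nat.card Q * Nat.card (A ⊓ Q : Subgroup H)
        = (Nat.card V * Nat.card (A ⊓ Q : Subgroup H)) * Nat.card Q := by ring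
      _ = (Nat.card (V ⊔ (A ⊓ Q) : Subgroup H) * Nat.card (V ⊓ A : Subgroup H)) * Nat.card Q := by
          rw [h3]
      _ ≤ (Nat.card A * Nat.card (CV V (A ⊔ Q))) * Nat.card Q := by
          apply Nat.mul_le_mul_right
          exact Nat.mul_le_mul h2 h7
      _ = (Nat.card A * Nat.card Q) * Nat.card (CV V (A ⊔ Q)) := by ring
      _ = (Nat.card (A ⊔ Q : Subgroup H) * Nat.card (A ⊓ Q : Subgroup H)) * Nat.card (CV V (A ⊔ Q)) := by
          rw [h1]
      _ = Nat.card (A ⊔ Q : Subgroup H) * Nat.card (CV V (A ⊔ Q)) * Nat.card (A ⊓ Q : Subgroup H) := by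
          ring

/-- a subgroup of index `p` of a minimal offender, properly containing `Q`, has the same fixed
points on `V`. -/
theorem MinOff.CV_eq {p : ℕ} [hp : Fact p.Prime] {T V Q D D₁ : Subgroup H}
    (h : D ∈ MinOff T V Q) (hV : IsPGroup p V) (hQD : Q < D₁) (hD : D₁ < D)
    (hcard : Nat.card D = p * Nat.card D₁) : CV V D₁ = CV V D := by
  have hnot : ¬ Off T V Q D₁ := fun ho => hD.ne (h.2 _ ho hD.le)
  have h1 : Nat.card D₁ * Nat.card (CV V D₁) < Nat.card V * Nat.card Q := by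
    by_contra hcon
    exact hnot ⟨hQD, hD.le.trans h.1.2.1, not_lt.1 hcon⟩
  have h2 := h.1.2.2
  have hle : CV V D ≤ CV V D₁ := inf_le_inf_left _ (Subgroup.centralizer_le hD.le)
  have h3 : Nat.card (CV V D₁) < p * Nat.card (CV V D) := by
    have hpos : 0 < Nat.card D₁ := Nat.card_pos
    have : Nat.card D₁ * Nat.card (CV V D₁) < Nat.card D₁ * (p * Nat.card (CV V D)) := by
      calc Nat.card D₁ * Nat.card (CV V D₁) < Nat.card V * Nat.card Q := h1
        _ ≤ Nat.card D * Nat.card (CV V D) := h2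
        _ = Nat.card D₁ * (p * Nat.card (CV V D)) := by rw [hcard]; ring
    exact Nat.lt_of_mul_lt_mul_left this
  obtain ⟨a, ha⟩ := IsPGroup.iff_card.1 (hV.to_le (inf_le_left : CV V D₁ ≤ V))
  obtain ⟨b, hb⟩ := IsPGroup.iff_card.1 (hV.to_le (inf_le_left : CV V D ≤ V))
  rw [ha, hb, ← pow_succ'] at h3
  have h4 : a < b + 1 := (Nat.pow_lt_pow_iff_right hp.out.one_lt).1 h3
  symm
  apply Subgroup.eq_of_le_of_card_ge hle
  rw [ha, hb]
  exact Nat.pow_le_pow_right hp.out.pos (by omega)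

end Cfsg.Agent.Lib.Helper52.WC
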