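import Cfsg.Agent.Lib.Helper52.WCCore2

set_option autoImplicit false

/-! The local core of the weak closure theorem for elements of `Z(N(J(S)))`. -/

namespace Cfsg.Agent.Lib.Helper52.WC

open Cfsg.Agent.Lib.Helper39 Cfsg.Agent.Lib.Helper15.ZJ
open scoped IsMulCommutative

variable {H : Type*} [Group H] [Finite H] {p : ℕ} [hp : Fact p.Prime]

omit [Finite H] hp in
theorem normalClosure_pow_mem {x : H}
    (hab : ∀ a ∈ Subgroup.normalClosure ({x} : Set H), ∀ b ∈ Subgroup.normalClosure ({x} : Set H),
      a * b = b * a) (n : ℕ) (Z : Subgroup H) (hZ : Z.Normal) (hx : x ^ n ∈ Z) :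
    ∀ v ∈ Subgroup.normalClosure ({x} : Set H), v ^ n ∈ Z := by
  intro v hv
  have hv' : v ∈ Subgroup.closure (Group.conjugatesOfSet ({x} : Set H)) := hv
  induction hv' using Subgroup.closure_induction with
  | mem y hy =>
    rw [Group.mem_conjugatesOfSet_iff] at hy
    obtain ⟨a, ha, hay⟩ := hy
    rw [Set.mem_singleton_iff] at ha
    subst ha
    rw [isConj_iff] at hay
    obtain ⟨c, rfl⟩ := hay
    rw [conj_pow]
    exact hZ.conj_mem _ hx c
  | one => rw [one_pow]; exact Z.one_mem
  | mul a b ha hb iha ihb =>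
    have hc : Commute a b := hab a ha b hb
    rw [hc.mul_pow]
    exact Z.mul_mem (iha ha) (ihb hb)
  | inv a ha iha =>
    rw [inv_pow]
    exact Z.inv_mem (iha ha)

omit [Finite H] hp in
theorem cj_sSup_le {𝒮 : Set (Subgroup H)} {g : H} {R : Subgroup H}
    (h : ∀ D ∈ 𝒮, cj g D ≤ R) : cj g (sSup 𝒮) ≤ R := by
  rw [cj, (Subgroup.gc_map_comap (MulAut.conj g).toMonoidHom).l_sSup]
  exact iSup₂_le h

theorem core {e : ℕ} (T : Sylow p H) (z x : H) (hze : z ^ e = 1)
    (hzT : z ∈ (T : Subgroup H)) (hzZ : ∀ t ∈ (T : Subgroup H), t * z = z * t)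
    (hxz : x ∈ Subgroup.normalClosure ({z} : Set H))
    (hxZ : ∀ t ∈ (T : Subgroup H), t * x = x * t)
    (U : Subgroup H) (hUn : U.Normal) (hUT : U ≤ T) (hxU : x ∈ U)
    (hJ : ∀ n ∈ Subgroup.normalizer ((sSup (AE e (T : Subgroup H)) : Subgroup H) : Set H),
      n * x = x * n)
    (hmax : ∀ K : Subgroup H, (T : Subgroup H) ≤ K → K ≠ ⊤ → ∀ k ∈ K, k * x = x * k)
    (hpow : ∀ h : H, h * x ^ p = x ^ p * h)
    (htr : p ≠ 2 ∨ (∀ V : Subgroup H, V.Normal → (∀ a ∈ V, ∀ b ∈ V, a * b = b * a) → IsPGroup 2 V →
      ∀ d : H, (∃ k : ℕ, d ^ (2 ^ k) = 1) →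
      (V ⊓ Subgroup.centralizer ({d} : Set H)).relIndex V ≤ 2 →
      ∃ N : Subgroup H, N.Normal ∧ d ∈ N ∧
        ∀ n ∈ N, ∃ k : ℕ, n ^ (2 ^ k) ∈ Subgroup.centralizer (V : Set H)) ∨ x = z ^ p) :
    ∀ h : H, h * x = x * h := by
  by_contra hnc
  -- a normal `p`-subgroup containing `z`
  have hcUn : (Subgroup.centralizer (U : Set H)).Normal := by
    rw [← Subgroup.normalizer_eq_top_iff, eq_top_iff]
    refine le_trans ?_ (normalizer_le_normalizer_centralizer U)
    rw [Subgroup.normalizer_eq_top_iff.2 hUn]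
  set U' := (T : Subgroup H) ⊓ Subgroup.centralizer (U : Set H) with hU'
  have hU'n : U'.Normal := um_normal T x hmax hnc _ hcUn
    (fun n hn => (Subgroup.mem_centralizer_iff.1 hn x hxU).symm)
  have hU'T : U' ≤ T := inf_le_left
  set V := Subgroup.normalClosure ({z} : Set H) with hVdef
  have hVn : V.Normal := Subgroup.normalClosure_normal
  have hxV : x ∈ V := hxz
  have hzU' : z ∈ U' := by
    refine ⟨hzT, ?_⟩
    show z ∈ Subgroup.centralizer (U : Set H)
    rw [Subgroup.mem_centralizer_iff]
    intro u hu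
    exact hzZ u (hUT hu)
  have hVU : V ≤ U' := Subgroup.normalClosure_le_normal (by simpa using hzU')
  have hVT : V ≤ T := hVU.trans hU'T
  have hVcU : V ≤ Subgroup.centralizer (U' : Set H) :=
    normalClosure_le_centralizer hU'n (fun r hr => hzZ r (hU'T hr))
  have hVab : ∀ a ∈ V, ∀ b ∈ V, a * b = b * a := by
    intro a ha b hb
    exact (Subgroup.mem_centralizer_iff.1 (hVcU hb) a (hVU ha))
  have hVp : IsPGroup p V := T.2.to_le hVT
  have hVe : ∀ v ∈ V, v ^ e = 1 := by
    intro v hv
    have := normalClosure_pow_mem hVab e ⊥ inferInstance (by rw [hze]; exact Subgroup.one_mem _) v hv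
    simpa using this
  set Vx := Subgroup.normalClosure ({x} : Set H) with hVxdef
  have hVxn : Vx.Normal := Subgroup.normalClosure_normal
  have hxVx : x ∈ Vx := Subgroup.subset_normalClosure (Set.mem_singleton x)
  have hVxV : Vx ≤ V := Subgroup.normalClosure_le_normal (by simpa using hxV)
  have hVxab : ∀ a ∈ Vx, ∀ b ∈ Vx, a * b = b * a :=
    fun a ha b hb => hVab a (hVxV ha) b (hVxV hb)
  have hVxp : IsPGroup p Vx := hVp.to_le hVxV
  have hVpow : ∀ v ∈ Vx, v ^ p ∈ Subgroup.center H :=
    normalClosure_pow_mem hVxab p (Subgroup.center H) inferInstance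
      (Subgroup.mem_center_iff.2 hpow)
  set C := Subgroup.centralizer (V : Set H) with hCdef
  have hCn : C.Normal := by
    rw [← Subgroup.normalizer_eq_top_iff, eq_top_iff]
    refine le_trans ?_ (normalizer_le_normalizer_centralizer V)
    rw [Subgroup.normalizer_eq_top_iff.2 hVn]
  have hCx : ∀ n ∈ C, n * x = x * n := fun n hn => (Subgroup.mem_centralizer_iff.1 hn x hxV).symm
  set Q := (T : Subgroup H) ⊓ C with hQdef
  have hQn : Q.Normal := um_normal T x hmax hnc C hCn hCx
  have hQT : Q ≤ T := inf_le_left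
  have hQV : Q ≤ Subgroup.centralizer (V : Set H) := inf_le_right
  have hVQ : V ≤ Q := by
    refine le_inf hVT ?_
    intro a ha
    rw [Subgroup.mem_centralizer_iff]
    intro b hb
    exact hVab b hb a ha
  have hnormalp : ∀ R : Subgroup H, R.Normal → IsPGroup p R → R ≤ Q := by
    intro R hRn hRp
    have hRT := normal_le_sylow T hRn hRp
    refine le_inf hRT ?_
    rw [hCdef, Subgroup.le_centralizer_iff]
    exact normalClosure_le_centralizer hRn (fun r hr => hzZ r (hRT hr))
  -- a member of `𝒜(T)` outside `Q`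
  have hexA : ∃ A ∈ AE e (T : Subgroup H), ¬ A ≤ Q := by
    by_contra hcon
    push Not at hcon
    apply hnc
    intro g
    apply hJ
    rw [mem_normalizer_iff_cj]
    apply cj_eq_of_le
    apply cj_sSup_le
    intro A hA
    apply le_sSup
    refine ⟨?_, ?_, ?_⟩
    · have := cj_mono g (hcon A hA)
      rw [cj_of_normal' hQn] at this
      exact this.trans hQT
    · exact (PE_map_iff (T := (T : Subgroup H)) (MulAut.conj g).toMonoidHom
        (MulAut.conj g).injective.injOn hA.1).2 hA.2.1
    · intro B' hB hB'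
      rw [card_cj]
      exact hA.2.2 B' hB hB'
  obtain ⟨A, hA, hAQ⟩ := hexA
  have hoff := off_of_AE hA hAQ hQn hQT hVQ ⟨hVab, hVe⟩ hQV
  obtain ⟨D₀, hD₀, -⟩ := exists_minOff_le hoff
  set P := sSup (MinOff (T : Subgroup H) V Q) with hPdef
  have hPT : P ≤ T := sSup_le (fun D hD => hD.1.2.1)
  have hQP : Q ≤ P := hD₀.1.1.le.trans (le_sSup hD₀)
  have hPp : IsPGroup p P := T.2.to_le hPT
  have hPnn : ¬ P.Normal := by
    intro h
    have h1 := hnormalp P h hPp
    exact absurd ((le_sSup hD₀).trans h1) (not_le_of_gt hD₀.1.1)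
  have hPconj : ∀ g : H, cj g P ≤ T → g ∈ Subgroup.normalizer (P : Set H) := by
    intro g hg
    rw [mem_normalizer_iff_cj]
    apply cj_eq_of_le
    apply cj_sSup_le
    intro D hD
    apply le_sSup
    exact MinOff.conj hVn hQn hD g ((cj_mono g (le_sSup hD)).trans hg)
  have hTNP : (T : Subgroup H) ≤ Subgroup.normalizer (P : Set H) := by
    intro t ht
    apply hPconj
    have := cj_mono t hPT
    rwa [cj_eq_of_mem_normalizer (Subgroup.le_normalizer ht)] at this
  have hNP : ∀ n ∈ Subgroup.normalizer (P : Set H), n * x = x * n :=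
    hmax _ hTNP (fun h => hPnn (Subgroup.normalizer_eq_top_iff.1 h))
  set M := Subgroup.centralizer ({x} : Set H) with hMdef
  have hmemM : ∀ g : H, g ∈ M ↔ g * x = x * g := fun g => Subgroup.mem_centralizer_singleton_iff
  have hTM : (T : Subgroup H) ≤ M := fun t ht => (hmemM t).2 (hxZ t ht)
  have hfix : ∀ h : H, (∀ t ∈ P, h⁻¹ * t * h ∈ M) → h ∈ M := by
    intro h hh
    have h1 : cj h⁻¹ P ≤ M := by
      rintro _ ⟨t, ht, rfl⟩
      simpa [MulAut.conj_apply] using hh t ht
    obtain ⟨m, hm, hle⟩ := exists_conj_le_of_relIndex (H := M) (R := (T : Subgroup H))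
      (Q := cj h⁻¹ P) hTM T.2 (sylow_relIndex_of_le T hTM) h1 (isPGroup_cj _ hPp)
    rw [← cj_mul] at hle
    have h3 : m * h⁻¹ ∈ M := (hmemM _).2 (hNP _ (hPconj _ hle))
    have h4 : h = (m * h⁻¹)⁻¹ * m := by group
    rw [h4]
    exact M.mul_mem (M.inv_mem h3) hm
  -- the module
  have : IsMulCommutative Vx := ⟨⟨fun a b => Subtype.ext (hVxab a a.2 b b.2)⟩⟩
  let _ : MulDistribMulAction H ↥Vx := MulDistribMulAction.compHom ↥Vx (MulAut.conjNormal (H := Vx))
  have hsmul : ∀ (h : H) (v : ↥Vx), ((h • v : ↥Vx) : H) = h * v * h⁻¹ := fun h v => rfl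
  have hsmulP : ∀ (h : ↥P) (v : ↥Vx), ((h • v : ↥Vx) : H) = h * v * (h : H)⁻¹ := fun h v => rfl
  set B : Subgroup ↥Vx := (Subgroup.center H).subgroupOf Vx with hBdef
  have hBp : ∀ v : ↥Vx, v ^ p ∈ B := by
    intro v
    rw [hBdef, Subgroup.mem_subgroupOf]
    exact hVpow v v.2
  have hnorm_fixed : ∀ (γ : ↥P) (v : ↥Vx), γ • v = v → ∏ j ∈ Finset.range p, γ ^ j • v ∈ B := by
    intro γ v h
    have h1 : ∀ j : ℕ, γ ^ j • v = v := by
      intro j
      induction j with
      | zero => simp
      | succ j ih => rw [pow_succ, mul_smul, h, ih]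
    simp only [h1, Finset.prod_const, Finset.card_range]
    exact hBp v
  have hN : ∀ N : Subgroup ↥P, N.Normal → N.index = p → ∃ γ : ↥P, γ ∉ N ∧
      ∀ v : ↥Vx, (∀ n ∈ N, n • v = v) → ∏ j ∈ Finset.range p, γ ^ j • v ∈ B := by
    intro N hNn hNidx
    set N' : Subgroup H := N.map P.subtype with hN'
    have hmemN : ∀ (g : H) (hg : g ∈ P), (⟨g, hg⟩ : ↥P) ∈ N ↔ g ∈ N' := by
      intro g hg
      constructor
      · intro h; exact ⟨⟨g, hg⟩, h, rfl⟩
      · rintro ⟨y, hy, hyg⟩
        have : y = ⟨g, hg⟩ := Subtype.ext hyg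
        rwa [← this]
    have hN'P : N' ≤ P := Subgroup.map_subtype_le N
    by_cases hQN : Q ≤ N'
    swap
    · obtain ⟨q, hq, hqN⟩ := SetLike.not_le_iff_exists.1 hQN
      refine ⟨⟨q, hQP hq⟩, fun h => hqN ((hmemN q _).1 h), fun v _ => hnorm_fixed _ v ?_⟩
      apply Subtype.ext
      rw [hsmulP]
      have := Subgroup.mem_centralizer_iff.1 (hQV hq) v (hVxV v.2)
      change q * v * q⁻¹ = v
      rw [← this]; group
    · obtain ⟨D, hD, hDN⟩ : ∃ D ∈ MinOff (T : Subgroup H) V Q, ¬ D ≤ N' := by
        by_contra hcon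
        push Not at hcon
        have h1 : P ≤ N' := sSup_le hcon
        have h2 : N = ⊤ := by
          rw [eq_top_iff]
          intro y _
          exact (hmemN y.1 y.2).2 (h1 y.2)
        rw [h2, Subgroup.index_top] at hNidx
        exact hp.out.one_lt.ne hNidx
      obtain ⟨d, hd, hdN⟩ := SetLike.not_le_iff_exists.1 hDN
      have hDP : D ≤ P := le_sSup hD
      have hdP : d ∈ P := hDP hd
      refine ⟨⟨d, hdP⟩, fun h => hdN ((hmemN d _).1 h), ?_⟩
      intro v hv
      set D₁ := D ⊓ N' with hD₁
      have hQD₁ : Q ≤ D₁ := le_inf hD.1.1.le hQN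
      have hD₁D : D₁ < D := lt_of_le_of_ne inf_le_left (fun h => hDN (h ▸ inf_le_right))
      have hrel : N'.relIndex D = p := by
        have h1 := Subgroup.relIndex_dvd_index_of_normal N (D.subgroupOf P)
        have h2 : N'.subgroupOf P = N := by
          rw [hN', Subgroup.subgroupOf, Subgroup.comap_map_eq_self_of_injective P.subtype_injective]
        rw [← h2, Subgroup.relIndex_subgroupOf hDP, h2, hNidx] at h1
        rcases (Nat.dvd_prime hp.out).1 h1 with h | h
        · exact absurd (Subgroup.relIndex_eq_one.1 h) hDN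
        · exact h
      have hcard : Nat.card D = p * Nat.card D₁ := by
        have h1 := Cfsg.Agent.Lib.Helper57.card_mul_relIndex (inf_le_left : D ⊓ N' ≤ D)
        rw [Subgroup.inf_relIndex_left, hrel] at h1
        rw [← h1, mul_comm]
      have hvD₁ : (v : H) ∈ CV V D₁ := by
        refine ⟨hVxV v.2, ?_⟩
        show (v : H) ∈ Subgroup.centralizer (D₁ : Set H)
        rw [Subgroup.mem_centralizer_iff]
        intro b hb
        have h1 := hv ⟨b, hN'P hb.2⟩ ((hmemN b _).2 hb.2)
        have h2 := congrArg Subtype.val h1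
        rw [hsmulP] at h2
        change b * v * b⁻¹ = v at h2
        calc b * v = (b * v * b⁻¹) * b := by group
          _ = v * b := by rw [h2]
      rcases eq_or_lt_of_le hQD₁ with hEq | hLt
      swap
      · rw [MinOff.CV_eq hD hVp hLt hD₁D hcard] at hvD₁
        apply hnorm_fixed
        apply Subtype.ext
        rw [hsmulP]
        have := Subgroup.mem_centralizer_iff.1 hvD₁.2 d hd
        change d * v * d⁻¹ = v
        rw [this]; group
      · -- the transvection case
        have hcV : Nat.card V ≤ p * Nat.card (CV V D) := by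
          have h1 := hD.1.2.2
          rw [hcard, ← hEq] at h1
          have hpos : 0 < Nat.card Q := Nat.card_pos
          apply Nat.le_of_mul_le_mul_right _ hpos
          calc Nat.card V * Nat.card Q ≤ p * Nat.card Q * Nat.card (CV V D) := h1
            _ = p * Nat.card (CV V D) * Nat.card Q := by ring
        set K₀ : Subgroup H := V ⊓ Subgroup.centralizer ({d} : Set H) with hK₀
        have hCVK : CV V D ≤ K₀ := by
          refine inf_le_inf_left _ (Subgroup.centralizer_le ?_)
          simpa using hd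
        have hrelK : K₀.relIndex V ≤ p := by
          have h1 := Cfsg.Agent.Lib.Helper57.card_mul_relIndex (inf_le_left : K₀ ≤ V)
          have h2 : Nat.card (CV V D) ≤ Nat.card K₀ := Subgroup.card_le_of_le hCVK
          have hpos : 0 < Nat.card K₀ := Nat.card_pos
          apply Nat.le_of_mul_le_mul_left _ hpos
          calc Nat.card K₀ * K₀.relIndex V = Nat.card V := h1
            _ ≤ p * Nat.card (CV V D) := hcV
            _ ≤ p * Nat.card K₀ := Nat.mul_le_mul_left _ h2
            _ = Nat.card K₀ * p := mul_comm _ _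
        have hdp : ∃ k : ℕ, d ^ (p ^ k) = 1 := by
          obtain ⟨k, hk⟩ := hPp ⟨d, hdP⟩
          exact ⟨k, congrArg Subtype.val hk⟩
        have hfixiff : ∀ v' : ↥Vx, (v' : H) ∈ K₀ ↔ (⟨d, hdP⟩ : ↥P) • v' = v' := by
          intro v'
          rw [hK₀, Subgroup.mem_inf, Subgroup.mem_centralizer_singleton_iff]
          constructor
          · rintro ⟨-, h⟩
            apply Subtype.ext
            rw [hsmulP]
            change d * v' * d⁻¹ = v'
            rw [← h]; group
          · intro h
            refine ⟨hVxV v'.2, ?_⟩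
            have h2 := congrArg Subtype.val h
            rw [hsmulP] at h2
            change d * v' * d⁻¹ = v' at h2
            calc (v' : H) * d = (d * v' * d⁻¹) * d := by rw [h2]
              _ = d * v' := by group
        have hodd : p ≠ 2 → ∏ j ∈ Finset.range p, (⟨d, hdP⟩ : ↥P) ^ j • v ∈ B := by
          intro hp2
          apply norm_mem p (⟨d, hdP⟩ : ↥P) B hBp
          intro w
          have hquad : ∀ u : ↥Vx, ((⟨d, hdP⟩ : ↥P) • (((⟨d, hdP⟩ : ↥P) • u) / u)) /
              (((⟨d, hdP⟩ : ↥P) • u) / u) = 1 := by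
            intro u
            rw [div_eq_one]
            apply smul_div_fixed (p := p) (⟨d, hdP⟩ : ↥P) (hPp _) hVxp (K₀.subgroupOf Vx)
            · intro v'
              rw [Subgroup.mem_subgroupOf]
              exact hfixiff v'
            · refine le_trans ?_ hrelK
              exact Subgroup.relIndex_le_of_le_right hVxV (by
                intro h0
                have h1 := Cfsg.Agent.Lib.Helper57.card_mul_relIndex (inf_le_left : K₀ ≤ V)
                rw [h0, mul_zero] at h1
                exact Nat.card_pos.ne h1)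
          obtain ⟨m, hm⟩ : ∃ m, p - 1 = m + 2 := by
            have := hp.out.two_le
            exact ⟨p - 3, by omega⟩
          rw [hm, Function.iterate_add_apply]
          have h2 : (fun w : ↥Vx => ((⟨d, hdP⟩ : ↥P) • w) / w)^[2] w = 1 := hquad w
          rw [h2]
          have h3 : ∀ m : ℕ, (fun w : ↥Vx => ((⟨d, hdP⟩ : ↥P) • w) / w)^[m] 1 = 1 := by
            intro m
            induction m with
            | zero => rfl
            | succ m ih =>
              rw [Function.iterate_succ_apply', ih]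
              simp
          rw [h3]
          exact B.one_mem
        by_cases hp2 : p = 2
        swap
        · exact hodd hp2
        rcases htr with hp2' | htr | hxz
        · exact absurd hp2 hp2'
        · exfalso
          obtain ⟨N₂, hN₂n, hdN₂, hN₂⟩ := htr V hVn hVab (hp2 ▸ hVp) d (hp2 ▸ hdp)
            (hp2 ▸ hrelK)
          have h1 : N₂ ≤ C ⊔ (T : Subgroup H) := le_sup_sylow T hN₂n hCn (by
            intro k hk
            obtain ⟨n, hn⟩ := hN₂ k hk
            exact ⟨n, by rw [hp2]; exact hn⟩)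
          have h2 : ∀ n ∈ N₂, n * x = x * n := by
            intro n hn
            have h3 : C ⊔ (T : Subgroup H) ≤ M := sup_le (fun c hc => (hmemM c).2 (hCx c hc)) hTM
            exact (hmemM n).1 (h3 (h1 hn))
          have h3 := um_normal T x hmax hnc N₂ hN₂n h2
          have h4 := hnormalp _ h3 (T.2.to_le inf_le_left)
          exact hdN (hQN (h4 ⟨hD.1.2.1 hd, hdN₂⟩))
        · -- `x = z ^ p`: the transvection centralizes `p`-th powers
          apply hnorm_fixed
          rw [← hfixiff]
          have hpK : ∀ u ∈ V, u ^ p ∈ K₀ := by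
            intro u hu
            have : IsMulCommutative V := ⟨⟨fun a b => Subtype.ext (hVab a a.2 b b.2)⟩⟩
            have hKn : (K₀.subgroupOf V).Normal := inferInstance
            have h1 := Subgroup.pow_index_mem (K₀.subgroupOf V) (⟨u, hu⟩ : ↥V)
            have h2 : (K₀.subgroupOf V).index = K₀.relIndex V := rfl
            obtain ⟨n, hn⟩ := (IsPGroup.index (p := p) hVp (K₀.subgroupOf V))
            rw [h2] at h1 hn
            rw [Subgroup.mem_subgroupOf, Subgroup.coe_pow] at h1
            change u ^ _ ∈ K₀ at h1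
            rw [hn] at hrelK h1
            rcases n with _ | _ | n
            · simp only [pow_zero, pow_one] at h1
              exact K₀.pow_mem h1 p
            · simpa using h1
            · exfalso
              have : p ^ 1 < p ^ (n + 1 + 1) := Nat.pow_lt_pow_right hp.out.one_lt (by omega)
              rw [pow_one] at this
              omega
          have hle : Vx ≤ K₀ := by
            rw [hVxdef]
            unfold Subgroup.normalClosure
            rw [Subgroup.closure_le]
            intro y hy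
            rw [Group.mem_conjugatesOfSet_iff] at hy
            obtain ⟨a, ha, hay⟩ := hy
            rw [Set.mem_singleton_iff] at ha
            subst ha
            rw [isConj_iff] at hay
            obtain ⟨c, rfl⟩ := hay
            rw [hxz, ← conj_pow]
            exact hpK _ (hVn.conj_mem z (Subgroup.subset_normalClosure (Set.mem_singleton z)) c)
          exact hle v.2
  obtain ⟨z, hz1, hz2⟩ := trace_congr_fixed M P hPp (hPT.trans hTM) hfix B hN ⟨x, hxVx⟩ (by
    intro m hm
    apply Subtype.ext
    rw [hsmul]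
    change m * x * m⁻¹ = x
    rw [(hmemM m).1 hm]; group)
  apply hnc
  have hzc : (z : H) ∈ Subgroup.center H := by
    rw [Subgroup.mem_center_iff]
    intro h
    have := congrArg Subtype.val (hz1 h)
    rw [hsmul] at this
    calc h * z = (h * z * h⁻¹) * h := by group
      _ = z * h := by rw [this]
  rw [hBdef, Subgroup.mem_subgroupOf] at hz2
  have hz3 : (z : H) * x⁻¹ ∈ Subgroup.center H := by
    simpa [div_eq_mul_inv] using hz2
  have hxc : x ∈ Subgroup.center H := by
    have h1 : x = ((z : H) * x⁻¹)⁻¹ * z := by group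
    rw [h1]
    exact Subgroup.mul_mem _ (Subgroup.inv_mem _ hz3) hzc
  exact Subgroup.mem_center_iff.1 hxc

end Cfsg.Agent.Lib.Helper52.WC
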