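import Cfsg.Agent.Lib.Helper52.WCRel

set_option autoImplicit false

/-! Elements of `S ∩ Z(N(J(S)))` are weakly closed (Glauberman): the global theorem,
conditional on the transvection lemma for `S₄`-free groups. -/

namespace Cfsg.Agent.Lib.Helper52.WC

open Cfsg.Agent.Lib.Helper39 Cfsg.Agent.Lib.Helper15.ZJ Cfsg.Agent.Lib.Helper62

universe u

variable {G : Type u} [Group G]

/-- the centre of `T` -/
abbrev Zc (T : Subgroup G) : Subgroup G := T ⊓ Subgroup.centralizer (T : Set G)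

/-- the `p`-th powers of the elements of the centre of `T` -/
def Zp (p : ℕ) (T : Subgroup G) : Subgroup G where
  carrier := (fun z : G => z ^ p) '' (Zc T : Set G)
  mul_mem' := by
    rintro _ _ ⟨a, ha, rfl⟩ ⟨b, hb, rfl⟩
    refine ⟨a * b, (Zc T).mul_mem ha hb, ?_⟩
    have hc : Commute a b := (Subgroup.mem_centralizer_iff.1 hb.2 a ha.1)
    exact hc.mul_pow p
  one_mem' := ⟨1, (Zc T).one_mem, one_pow p⟩
  inv_mem' := by
    rintro _ ⟨a, ha, rfl⟩
    exact ⟨a⁻¹, (Zc T).inv_mem ha, inv_pow a p⟩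

theorem Zp_le (p : ℕ) (T : Subgroup G) : Zp p T ≤ Zc T := by
  rintro _ ⟨a, ha, rfl⟩
  exact (Zc T).pow_mem ha p

theorem Zp_mono (p : ℕ) (T P : Subgroup G) (h : Zc T ≤ Zc P) : Zp p T ≤ Zp p P := by
  rintro _ ⟨a, ha, rfl⟩
  exact ⟨a, h ha, rfl⟩

variable [Finite G] {p : ℕ} [hp : Fact p.Prime]

theorem isConjugacyFunctor_JJ : Cfsg.IsConjugacyFunctor p (fun P : Subgroup G => JJ 0 P) := by
  intro P hP
  refine ⟨JJ_le 0 P, fun h => JJ_ne_bot (Or.inl rfl) hP h, fun g => ?_⟩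
  exact JJ_map (MulAut.conj g).toMonoidHom (MulAut.conj g).injective.injOn

theorem Zc_le_JJ (P : Subgroup G) : Zc P ≤ JJ 0 P := by
  obtain ⟨A, hA⟩ := AE_nonempty 0 P
  intro x hx
  have h1 : x ∈ A := mem_of_commute hA hx.1 (pow_zero x)
    (fun a ha => Subgroup.mem_centralizer_iff.1 hx.2 a (hA.1 ha))
  exact (le_sSup hA : A ≤ sSup (AE 0 P)) h1

theorem wc_aux (hL2 : TransvectionLemma.{u}) (F : Subgroup G → Subgroup G)
    (hF1 : ∀ T : Subgroup G, F T ≤ Zc T)
    (hF2 : ∀ T P : Subgroup G, Zc T ≤ Zc P → F T ≤ F P)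
    (hFz : ∀ (y : G) (T : Subgroup G), y ∈ F T → ∃ z ∈ Zc T,
      (y = z ∧ (p ≠ 2 ∨ ¬ Cfsg.Involves (Equiv.Perm (Fin 4)) G)) ∨ y = z ^ p) :
    ∀ (n : ℕ) (x : G), x ^ (p ^ n) = 1 → ∀ H T : Subgroup G, T ≤ H → IsPGroup p T →
      ¬ p ∣ T.relIndex H → Subgroup.zpowers x ≤ F T →
      H ⊓ Subgroup.normalizer ((JJ 0 T : Subgroup G) : Set G) ≤
        Subgroup.centralizer ((Subgroup.zpowers x : Subgroup G) : Set G) →
      ∀ h ∈ H, cj h (Subgroup.zpowers x) ≤ T →
        h ∈ Subgroup.centralizer ((Subgroup.zpowers x : Subgroup G) : Set G) := by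
  intro n
  induction n with
  | zero =>
    intro x hx H T _ _ _ _ _ h _ _
    rw [pow_zero, pow_one] at hx
    rw [mem_centralizer_zpowers, hx, mul_one, one_mul]
  | succ n ih =>
    intro x hx
    apply skeleton (fun P : Subgroup G => JJ 0 P) isConjugacyFunctor_JJ (fun P _ => Zc_le_JJ P)
      F hF1 hF2 (Subgroup.zpowers x) _ (Subgroup.centralizer_le_normalizer _)
    intro H T hTH hT hidx hAF hU hNL hmax
    have hxF : x ∈ F T := hAF (Subgroup.mem_zpowers x)
    obtain ⟨z, hz, hxz⟩ := hFz x T hxF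
    have hle : Subgroup.zpowers (x ^ p) ≤ Subgroup.zpowers x := by
      rw [Subgroup.zpowers_le]
      exact Subgroup.pow_mem _ (Subgroup.mem_zpowers x) p
    have hpow : H ≤ Subgroup.centralizer ((Subgroup.zpowers (x ^ p) : Subgroup G) : Set G) := by
      intro h hh
      apply ih (x ^ p) (by rw [← pow_mul, ← pow_succ']; exact hx) H T hTH hT hidx (hle.trans hAF)
        (hNL.trans (Subgroup.centralizer_le hle)) h hh
      obtain ⟨U, hxU, hUT, hUn⟩ := hU
      have h1 := cj_mono h (hle.trans hxU)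
      rw [cj_eq_of_mem_normalizer (hUn hh)] at h1
      exact h1.trans hUT
    exact hcore_rel hL2 x z H T hTH hT hidx hz (hF1 T hxF) hxz hU hNL hmax hpow

/-- **Glauberman**: an element of `S ∩ Z(N_G(J(S)))` is weakly closed in `S` with respect to `G`,
if `p` is odd, or it is a `p`-th power in `Z(S)`, or `G` is `S₄`-free. -/
theorem weakly_closed (hL2 : TransvectionLemma.{u}) (S : Sylow p G) (x : G)
    (hxS : x ∈ (S : Subgroup G))
    (hxN : ∀ n ∈ Subgroup.normalizer ((JJ 0 (S : Subgroup G) : Subgroup G) : Set G), n * x = x * n)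
    (h : p ≠ 2 ∨ (∃ z ∈ Zc (S : Subgroup G), z ^ p = x) ∨
      ¬ Cfsg.Involves (Equiv.Perm (Fin 4)) G) :
    ∀ g : G, g * x * g⁻¹ ∈ (S : Subgroup G) → g * x * g⁻¹ = x := by
  intro g hg
  obtain ⟨n, hn⟩ := S.2 ⟨x, hxS⟩
  have hxn : x ^ (p ^ n) = 1 := congrArg Subtype.val hn
  have hxZ : x ∈ Zc (S : Subgroup G) := by
    refine ⟨hxS, ?_⟩
    show x ∈ Subgroup.centralizer ((S : Subgroup G) : Set G)
    rw [Subgroup.mem_centralizer_iff]
    intro s hs
    exact hxN s (normalizer_le_normalizer_JJ 0 _ (Subgroup.le_normalizer hs))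
  have hNL : (⊤ : Subgroup G) ⊓ Subgroup.normalizer ((JJ 0 (S : Subgroup G) : Subgroup G) : Set G) ≤
      Subgroup.centralizer ((Subgroup.zpowers x : Subgroup G) : Set G) := by
    intro m hm
    rw [mem_centralizer_zpowers]
    exact hxN m hm.2
  have hcj : cj g (Subgroup.zpowers x) ≤ (S : Subgroup G) := by
    rw [cj, MonoidHom.map_zpowers, Subgroup.zpowers_le]
    simpa [MulAut.conj_apply] using hg
  have hfin : g ∈ Subgroup.centralizer ((Subgroup.zpowers x : Subgroup G) : Set G) := by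
    by_cases hb : ∃ z ∈ Zc (S : Subgroup G), z ^ p = x
    · obtain ⟨z, hz, hzx⟩ := hb
      exact wc_aux hL2 (Zp p) (Zp_le p) (Zp_mono p)
        (by
          rintro y T ⟨z', hz', rfl⟩
          exact ⟨z', hz', Or.inr rfl⟩)
        n x hxn ⊤ S le_top S.2 (sylow_relIndex_top S)
        (by rw [Subgroup.zpowers_le]; exact ⟨z, hz, hzx⟩) hNL g (Subgroup.mem_top g) hcj
    · have hc : p ≠ 2 ∨ ¬ Cfsg.Involves (Equiv.Perm (Fin 4)) G := by
        rcases h with h | h | h
        · exact Or.inl h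
        · exact absurd h hb
        · exact Or.inr h
      exact wc_aux hL2 (fun T => Zc T) (fun T => le_rfl) (fun T P h => h)
        (fun y T hy => ⟨y, hy, Or.inl ⟨rfl, hc⟩⟩)
        n x hxn ⊤ S le_top S.2 (sylow_relIndex_top S)
        (by rw [Subgroup.zpowers_le]; exact hxZ) hNL g (Subgroup.mem_top g) hcj
  rw [mem_centralizer_zpowers] at hfin
  rw [hfin]; group

end Cfsg.Agent.Lib.Helper52.WC
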