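import Cfsg.Agent.Lib.Helper52.WCCore3
import Cfsg.Agent.Lib.Helper52.RelSyl
import Cfsg.Agent.Lib.Helper39.WeakClosure
import Cfsg.Agent.Lib.Helper62.ThompsonJ
import Cfsg.Agent.Lib.Helper57.Qd1

set_option autoImplicit false

/-! Elements of `S ∩ Z(N(J(S)))` are weakly closed (Glauberman), conditional on the
transvection lemma for `S₄`-free groups. -/

namespace Cfsg.Agent.Lib.Helper52.WC

open Cfsg.Agent.Lib.Helper39 Cfsg.Agent.Lib.Helper15.ZJ Cfsg.Agent.Lib.Helper62

universe u

/-- the transvection lemma for `S₄`-free groups -/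
def TransvectionLemma : Prop :=
  ∀ (H : Type u) [Group H] [Finite H] (V : Subgroup H) [V.Normal],
    (∀ a ∈ V, ∀ b ∈ V, a * b = b * a) → IsPGroup 2 V →
    ∀ d : H, (∃ k : ℕ, d ^ (2 ^ k) = 1) →
    (V ⊓ Subgroup.centralizer ({d} : Set H)).relIndex V ≤ 2 →
    ¬ Cfsg.Involves (Equiv.Perm (Fin 4)) H →
    ∃ N : Subgroup H, N.Normal ∧ d ∈ N ∧
      ∀ n ∈ N, ∃ k : ℕ, n ^ (2 ^ k) ∈ Subgroup.centralizer (V : Set H)

variable {G : Type u} [Group G]

theorem mem_centralizer_zpowers {g x : G} :
    g ∈ Subgroup.centralizer ((Subgroup.zpowers x : Subgroup G) : Set G) ↔ g * x = x * g := by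
  rw [Subgroup.zpowers_eq_closure, Subgroup.centralizer_closure,
    Subgroup.mem_centralizer_singleton_iff]

variable [Finite G] {p : ℕ} [hp : Fact p.Prime]

theorem hcore_rel (hL2 : TransvectionLemma.{u}) (x z : G) (H T : Subgroup G) (hTH : T ≤ H)
    (hT : IsPGroup p T) (hidx : ¬ p ∣ T.relIndex H)
    (hz : z ∈ T ⊓ Subgroup.centralizer (T : Set G))
    (hx : x ∈ T ⊓ Subgroup.centralizer (T : Set G))
    (hxz : (x = z ∧ (p ≠ 2 ∨ ¬ Cfsg.Involves (Equiv.Perm (Fin 4)) G)) ∨ x = z ^ p)
    (hU : ∃ U : Subgroup G, Subgroup.zpowers x ≤ U ∧ U ≤ T ∧ H ≤ Subgroup.normalizer (U : Set G))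
    (hNL : H ⊓ Subgroup.normalizer ((JJ 0 T : Subgroup G) : Set G) ≤
      Subgroup.centralizer ((Subgroup.zpowers x : Subgroup G) : Set G))
    (hmax : ∀ H' : Subgroup G, T ≤ H' → H' < H →
      H' ≤ Subgroup.centralizer ((Subgroup.zpowers x : Subgroup G) : Set G))
    (hpow : H ≤ Subgroup.centralizer ((Subgroup.zpowers (x ^ p) : Subgroup G) : Set G)) :
    H ≤ Subgroup.centralizer ((Subgroup.zpowers x : Subgroup G) : Set G) := by
  obtain ⟨U, hxU, hUT, hUn⟩ := hU
  rw [Subgroup.zpowers_le] at hxU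
  let T' : Sylow p ↥H := sylowOfRelIndex hT hidx
  have hT' : (T' : Subgroup ↥H) = T.subgroupOf H := rfl
  have hmapT : (T.subgroupOf H).map H.subtype = T := Subgroup.map_subgroupOf_eq_of_le hTH
  have key := core (e := 0) T' (⟨z, hTH hz.1⟩ : ↥H) (⟨x, hTH hx.1⟩ : ↥H) (pow_zero _)
    (by rw [hT', Subgroup.mem_subgroupOf]; exact hz.1)
    (by
      intro t ht
      rw [hT', Subgroup.mem_subgroupOf] at ht
      apply Subtype.ext
      exact Subgroup.mem_centralizer_iff.1 hz.2 t ht)
    (by
      rcases hxz with ⟨h, -⟩ | h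
      · have : (⟨x, hTH hx.1⟩ : ↥H) = ⟨z, hTH hz.1⟩ := Subtype.ext h
        rw [this]
        exact Subgroup.subset_normalClosure (Set.mem_singleton _)
      · have : (⟨x, hTH hx.1⟩ : ↥H) = (⟨z, hTH hz.1⟩ : ↥H) ^ p := Subtype.ext h
        rw [this]
        exact Subgroup.pow_mem _ (Subgroup.subset_normalClosure (Set.mem_singleton _)) p)
    (by
      intro t ht
      rw [hT', Subgroup.mem_subgroupOf] at ht
      apply Subtype.ext
      exact Subgroup.mem_centralizer_iff.1 hx.2 t ht)
    (U.subgroupOf H)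
    ((Subgroup.normal_subgroupOf_iff_le_normalizer (hUT.trans hTH)).2 hUn)
    (by
      rw [hT']
      intro u hu
      rw [Subgroup.mem_subgroupOf] at hu ⊢
      exact hUT hu)
    (by rw [Subgroup.mem_subgroupOf]; exact hxU)
    (by
      intro n hn
      apply Subtype.ext
      change (n : G) * x = x * n
      rw [← mem_centralizer_zpowers]
      apply hNL
      refine ⟨n.2, ?_⟩
      have h1 : JJ 0 T = (JJ 0 (T.subgroupOf H)).map H.subtype := by
        rw [← JJ_map H.subtype H.subtype_injective.injOn, hmapT]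
      rw [h1]
      show (n : G) ∈ Subgroup.normalizer _
      rw [mem_normalizer_iff_cj]
      apply cj_eq_of_le
      rintro _ ⟨_, ⟨j, hj, rfl⟩, rfl⟩
      refine ⟨n * j * n⁻¹, ?_, ?_⟩
      · exact (Subgroup.mem_normalizer_iff.1 hn j).1 hj
      · simp [MulAut.conj_apply])
    (by
      intro K hTK hK k hk
      apply Subtype.ext
      change (k : G) * x = x * k
      rw [← mem_centralizer_zpowers]
      apply hmax (K.map H.subtype)
      · rw [← hmapT]
        exact Subgroup.map_mono hTK
      · refine lt_of_le_of_ne (Subgroup.map_subtype_le K) ?_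
        intro h
        apply hK
        rw [eq_top_iff]
        intro y _
        have hy : (y : G) ∈ K.map H.subtype := by rw [h]; exact y.2
        obtain ⟨y', hy', hyy⟩ := hy
        have : y' = y := Subtype.ext hyy
        rwa [← this]
      · exact ⟨k, hk, rfl⟩)
    (by
      intro h
      apply Subtype.ext
      change (h : G) * x ^ p = x ^ p * h
      rw [← mem_centralizer_zpowers]
      exact hpow h.2)
    (by
      rcases hxz with ⟨-, h | h⟩ | h
      · exact Or.inl h
      · right; left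
        intro V hVn hab hV d hd hidx'
        exact hL2 ↥H V hab hV d hd hidx'
          (fun hinv => h (Cfsg.Agent.Lib.Helper57.Qd.involves_of_injective H.subtype
            H.subtype_injective hinv))
      · right; right
        exact Subtype.ext h)
  intro h hh
  rw [mem_centralizer_zpowers]
  exact congrArg Subtype.val (key ⟨h, hh⟩)

end Cfsg.Agent.Lib.Helper52.WC
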